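import Cfsg.Agent.Lib.E6Form.Basic

/-!
# The derived forms are invariant under the isometries of the cubic form
-/

set_option autoImplicit false
set_option maxRecDepth 100000
set_option linter.unusedSectionVars false

namespace Cfsg.Agent.Lib.E6Form

open Cfsg.Lie Matrix

/-- The field has a third element. -/
def Big (F : Type*) [Field F] : Prop := ∃ l : F, l ≠ 0 ∧ l ≠ 1

theorem big_of_card {F : Type*} [Field F] [Fintype F] (h : 3 ≤ Fintype.card F) : Big F := by
  classical
  have : ({0, 1} : Finset F) ≠ Finset.univ := fun e => by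
    have := congrArg Finset.card e
    rw [Finset.card_univ, Finset.card_pair zero_ne_one] at this
    omega
  obtain ⟨l, -, hl⟩ := Finset.exists_of_ssubset (Finset.ssubset_univ_iff.mpr this)
  simp only [Finset.mem_insert, Finset.mem_singleton, not_or] at hl
  exact ⟨l, hl.1, hl.2⟩

variable {F : Type*} [Field F]

theorem cubicT_act {g : GL I27 F} (hg : g ∈ E6univ F) (v : I27 → F) : cubicT (g.val *ᵥ v) = cubicT v :=
  hg v

theorem der_act (hF : Big F) {g : GL I27 F} (hg : g ∈ E6univ F) (v u : I27 → F) :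
    der (g.val *ᵥ v) (g.val *ᵥ u) = der v u := by
  have h : ∀ s : F, s * (der (g.val *ᵥ v) (g.val *ᵥ u) - der v u) +
      s ^ 2 * (der (g.val *ᵥ u) (g.val *ᵥ v) - der u v) = 0 := by
    intro s
    have e1 := cubicT_act hg (v + s • u)
    rw [Matrix.mulVec_add, Matrix.mulVec_smul, cubicT_add_smul, cubicT_add_smul, cubicT_act hg v,
      cubicT_act hg u] at e1
    linear_combination e1
  obtain ⟨l, hl0, hl1⟩ := hF
  have h1 := h 1
  have h2 := h l
  have h3 : (l * (1 - l)) * (der (g.val *ᵥ v) (g.val *ᵥ u) - der v u) = 0 := by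
    linear_combination h2 - l ^ 2 * h1
  rcases mul_eq_zero.mp h3 with h4 | h4
  · rcases mul_eq_zero.mp h4 with h5 | h5
    · exact absurd h5 hl0
    · exact absurd (sub_eq_zero.mp h5).symm hl1
  · exact sub_eq_zero.mp h4

theorem pol_act (hF : Big F) {g : GL I27 F} (hg : g ∈ E6univ F) (u v w : I27 → F) :
    pol (g.val *ᵥ u) (g.val *ᵥ v) (g.val *ᵥ w) = pol u v w := by
  rw [pol_eq, pol_eq, ← Matrix.mulVec_add, der_act hF hg, der_act hF hg, der_act hF hg]

/-- Linearity of the trilinear form in the second argument. -/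
theorem pol_expand (u v w : I27 → F) : pol u v w = ∑ x, co v x * pol u (e x) w := by
  simp only [pol, Finset.mul_sum]
  rw [Finset.sum_comm]
  refine Finset.sum_congr rfl fun t _ => ?_
  have hz : ∀ a, co v a = ∑ x, co v x * co (e x : I27 → F) a := fun a => by simp [co_e]
  conv_lhs => rw [hz (va t), hz (vb t), hz (vc t)]
  simp only [Finset.mul_sum, Finset.sum_mul, ← Finset.sum_add_distrib]
  exact Finset.sum_congr rfl fun x _ => by ring

theorem act_inv (g : GL I27 F) (v : I27 → F) : g.val *ᵥ ((g⁻¹).val *ᵥ v) = v := by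
  rw [Matrix.mulVec_mulVec, Units.mul_inv, Matrix.one_mulVec]

theorem inv_act (g : GL I27 F) (v : I27 → F) : (g⁻¹).val *ᵥ (g.val *ᵥ v) = v := by
  rw [Matrix.mulVec_mulVec, Units.inv_mul, Matrix.one_mulVec]

theorem act_ne_zero (g : GL I27 F) {v : I27 → F} (hv : v ≠ 0) : g.val *ᵥ v ≠ 0 := fun h => hv (by
  rw [← inv_act g v, h, Matrix.mulVec_zero])

theorem e_ne_zero (a : Fin 27) : (e a : I27 → F) ≠ 0 := fun h => by
  have := congrArg (fun v => co v a) h
  simp [co_e, co] at this
  simp [e] at this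

end Cfsg.Agent.Lib.E6Form
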