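import Cfsg.Agent.Lib.E6Form.Checks
import Cfsg.Agent.Lib.E6Form.Invariance

/-!
# The isometry group of the cubic form is generated by root elements
-/

set_option autoImplicit false
set_option maxRecDepth 100000
set_option linter.unusedSectionVars false

namespace Cfsg.Agent.Lib.E6Form

open Cfsg.Lie Matrix

variable {F : Type*} [Field F]

/-- The isometries fixing the given basis vectors. -/
def Fix (L : List (Fin 27)) (g : GL I27 F) : Prop :=
  g ∈ E6univ F ∧ ∀ l ∈ L, g.val *ᵥ e l = e l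

theorem Fix.mul {L : List (Fin 27)} {g h : GL I27 F} (hg : Fix L g) (hh : Fix L h) : Fix L (g * h) :=
  ⟨mul_mem hg.1 hh.1, fun l hl => by
    rw [Units.val_mul, ← Matrix.mulVec_mulVec, hh.2 l hl, hg.2 l hl]⟩

theorem Fix.inv {L : List (Fin 27)} {g : GL I27 F} (hg : Fix L g) : Fix L g⁻¹ :=
  ⟨inv_mem hg.1, fun l hl => by
    have h := congrArg (fun v => g⁻¹.val *ᵥ v) (hg.2 l hl)
    simp only [inv_act] at h
    exact h.symm⟩

theorem fix_root {L : List (Fin 27)} {r : Fin 72} (h : rootOK L r = true) (t : F) : Fix L (xg r t) := by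
  refine ⟨gen_le (xg_mem_gen r t), fun l hl => ?_⟩
  rw [xg_mulVec, mx_mulVec_e_eq_zero, smul_zero, add_zero]
  intro p hp he
  have := List.all_eq_true.mp h p hp
  simp [he, hl] at this

theorem co_xg_other {r : Fin 72} {a : Fin 27} (t : F) (v : I27 → F) (h : ∀ p ∈ ent r, p.1 ≠ a) :
    co ((xg r t).val *ᵥ v) a = co v a := by
  rw [xg_mulVec, co_add, co_smul, co_mx_eq_zero h, mul_zero, add_zero]

theorem co_xg_single {r : Fin 72} {a b : Fin 27} (t : F) (v : I27 → F)
    (h : ∀ p ∈ ent r, p.1 = a → p.2.1 = b) :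
    co ((xg r t).val *ᵥ v) a = co v a + t * ((coef (ent r) a b : F) * co v b) := by
  rw [xg_mulVec, co_add, co_smul, co_mx_eq_single h]

theorem sq_ne_zero {c : ℤ} (h : c * c = 1) : (c : F) ≠ 0 := fun e => by
  have := congrArg (Int.cast : ℤ → F) h
  rw [Int.cast_mul, e, mul_zero, Int.cast_one] at this
  exact zero_ne_one this

variable (hF : Big F)
include hF

theorem co_dead {L : List (Fin 27)} {a x : Fin 27} {g : GL I27 F} (hg : Fix L g)
    (h : dead L a x = true) : co (g.val *ᵥ e a) x = 0 := by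
  obtain ⟨l, hl, hlx⟩ := List.any_eq_true.mp h
  obtain ⟨hla, hfx⟩ := Bool.and_eq_true_iff.mp hlx
  obtain ⟨hfz, hth, htau⟩ := th_th l x hfx
  have hnf : far l a = false := by
    rcases Bool.or_eq_true_iff.mp hla with h1 | h1
    · simpa [adj] using (Bool.and_eq_true_iff.mp h1).2
    · rw [beq_iff_eq] at h1; subst h1; exact far_self l
  have h0 : pol (g.val *ᵥ e l) (g.val *ᵥ e a) (g.val *ᵥ ((g⁻¹).val *ᵥ e (th l x))) = 0 := by
    rw [pol_act hF hg.1, pol_e_e, hnf, if_neg (by simp)]
  rw [hg.2 l hl, act_inv, pol_comm, pol_e_e, hfz, if_pos rfl, hth] at h0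
  refine (mul_eq_zero.mp h0).resolve_left ?_
  obtain ⟨-, -, h2⟩ := th_th l (th l x) hfz
  exact sq_ne_zero h2

omit hF in
theorem chain {L : List (Fin 27)} :
    ∀ (l : List (Fin 72 × Fin 27)) (x : Fin 27) (v : I27 → F), pathOK L x l = true → co v x ≠ 0 →
      ∃ h : GL I27 F, h ∈ gen F ∧ Fix L h ∧ co (h.val *ᵥ v) (pathEnd x l) ≠ 0 := by
  intro l
  induction l with
  | nil =>
    intro x v _ hx
    exact ⟨1, one_mem _, ⟨one_mem _, fun l _ => by simp⟩, by simpa [pathEnd] using hx⟩
  | cons q l ih =>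
    obtain ⟨r, y⟩ := q
    intro x v hp hx
    simp only [pathOK, Bool.and_eq_true, beq_iff_eq] at hp
    obtain ⟨⟨⟨hr, hsq⟩, hrow⟩, hrest⟩ := hp
    have hrow' : ∀ p ∈ ent r, p.1 = y → p.2.1 = x := fun p hp e => by
      have := List.all_eq_true.mp hrow p hp
      simpa [e] using this
    by_cases hy : co v y = 0
    · have hy' : co ((xg r (1 : F)).val *ᵥ v) y ≠ 0 := by
        rw [co_xg_single 1 v hrow', hy, zero_add, one_mul]
        exact mul_ne_zero (sq_ne_zero hsq) hx
      obtain ⟨h, h1, h2, h3⟩ := ih y _ hrest hy'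
      refine ⟨h * xg r 1, mul_mem h1 (xg_mem_gen r 1), h2.mul (fix_root hr 1), ?_⟩
      rw [Units.val_mul, ← Matrix.mulVec_mulVec]
      exact h3
    · exact ih y v hrest hy

omit hF in
theorem clear {L : List (Fin 27)} {a : Fin 27} :
    ∀ (l : List (Fin 27 × Fin 72)), (∀ q ∈ l, clearOK L a q.1 q.2 = true) →
      ∀ v : I27 → F, co v a ≠ 0 → ∃ h : GL I27 F, h ∈ gen F ∧ Fix L h ∧
        co (h.val *ᵥ v) a = co v a ∧
        (∀ x, adj a x = true → (∀ q ∈ l, q.1 ≠ x) → co (h.val *ᵥ v) x = co v x) ∧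
        ∀ q ∈ l, adj a q.1 = true → co (h.val *ᵥ v) q.1 = 0 := by
  intro l
  induction l with
  | nil =>
    intro _ v _
    exact ⟨1, one_mem _, ⟨one_mem _, fun l _ => by simp⟩, by simp, by simp, by simp⟩
  | cons q l ih =>
    obtain ⟨x, r⟩ := q
    intro hok v hv
    obtain ⟨h, h1, h2, h3, h4, h5⟩ := ih (fun q hq => hok q (List.mem_cons_of_mem _ hq)) v hv
    have hc := hok (x, r) (by simp)
    simp only [clearOK, Bool.and_eq_true, beq_iff_eq, List.all_eq_true, Bool.or_eq_true,
      Bool.not_eq_true', beq_eq_false_iff_ne, ne_eq] at hc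
    obtain ⟨⟨hr, hsq⟩, hrows⟩ := hc
    set u := h.val *ᵥ v
    set t : F := -(co u x) / ((coef (ent r) x a : F) * co u a) with ht
    have hden : (coef (ent r) x a : F) * co u a ≠ 0 := mul_ne_zero (sq_ne_zero hsq) (h3 ▸ hv)
    have ha : co ((xg r t).val *ᵥ u) a = co u a := co_xg_other t u fun p hp => (hrows p hp).1.1
    have hxz : co ((xg r t).val *ᵥ u) x = 0 := by
      rw [co_xg_single t u (b := a) fun p hp e => (hrows p hp).2.resolve_left (fun c => c e), ht,
        div_mul_cancel₀ _ hden, add_neg_cancel]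
    have hoth : ∀ y, adj a y = true → y ≠ x → co ((xg r t).val *ᵥ u) y = co u y := fun y hy hne =>
      co_xg_other t u fun p hp e => by
        rcases (hrows p hp).1.2 with h | h
        · rw [e, hy] at h; cases h
        · exact hne (e.symm.trans h)
    refine ⟨xg r t * h, mul_mem (xg_mem_gen r t) h1, (fix_root hr t).mul h2, ?_, ?_, ?_⟩
    all_goals rw [Units.val_mul]
    all_goals simp only [← Matrix.mulVec_mulVec]
    · rw [ha, h3]
    · intro y hy hall
      rw [hoth y hy fun e => hall (x, r) (by simp) e.symm,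
        h4 y hy fun q hq => hall q (List.mem_cons_of_mem _ hq)]
    · intro q hq hy
      by_cases hqx : q.1 = x
      · rw [hqx]; exact hxz
      · rw [hoth _ hy hqx]
        rcases List.mem_cons.mp hq with e | e
        · exact absurd (by rw [e]) hqx
        · exact h5 q e hy

theorem eq_smul_e {a : Fin 27} {g : GL I27 F} (hg : g ∈ E6univ F)
    (ha : co (g.val *ᵥ e a) a ≠ 0) (hadj : ∀ x, adj a x = true → co (g.val *ᵥ e a) x = 0) :
    g.val *ᵥ e a = co (g.val *ᵥ e a) a • (e a : I27 → F) := by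
  refine ext_co fun x => ?_
  rw [co_smul, co_e]
  rcases eq_or_ne x a with rfl | hx
  · simp
  rw [if_neg hx, mul_zero]
  by_cases hf : far a x = true
  · obtain ⟨hk, hkx, -⟩ := th_th a x hf
    obtain ⟨-, -, htau⟩ := th_th a (th a x) hk
    have h0 : der (g.val *ᵥ e a) (e (th a x)) = 0 := by
      rw [← act_inv g (e (th a x)), der_act hF hg, der_single]
    rw [opposite_mul _ hk hadj, hkx] at h0
    rcases mul_eq_zero.mp h0 with h | h
    · exact absurd h (sq_ne_zero htau)
    · exact (mul_eq_zero.mp h).resolve_left ha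
  · exact hadj x (by simp [adj, hx.symm, hf])

omit hF in
theorem scale {L : List (Fin 27)} {a : Fin 27} {r : Fin 72} {y : Fin 27}
    (h : scaleOK L a r y = true) {c : F} (hc : c ≠ 0) :
    ∃ k : GL I27 F, k ∈ gen F ∧ Fix L k ∧ k.val *ᵥ (c • e a) = e a := by
  simp only [scaleOK, Bool.and_eq_true, beq_iff_eq, List.all_eq_true, Bool.or_eq_true,
    Bool.not_eq_true', beq_eq_false_iff_ne, ne_eq] at h
  obtain ⟨⟨⟨⟨⟨h1, h2⟩, hsq⟩, heq⟩, hr⟩, hrr⟩ := h
  set s : F := (coef (ent r) y a : F) with hs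
  have hs2 : s * s = 1 := by rw [hs, ← Int.cast_mul, hsq, Int.cast_one]
  have col : ∀ (q : Fin 72) (u w : Fin 27), (∀ p ∈ ent q, ¬ p.2.1 = u ∨ p.1 = w) →
      mx F (ent q) *ᵥ e u = (coef (ent q) w u : F) • e w := fun q u w hq => ext_co fun z => by
    rw [co_mx_e, co_smul, co_e]
    rcases eq_or_ne z w with rfl | hz
    · simp
    · rw [coef_eq_zero fun p hp e => (hq p hp).elim (fun c => c e.2) fun e' => hz (e.1.symm.trans e'),
        Int.cast_zero, if_neg hz, mul_zero]
  have ra : mx F (ent r) *ᵥ e a = s • e y := col r a y fun p hp => (hr p hp).2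
  have ry : mx F (ent r) *ᵥ e y = 0 := mx_mulVec_e_eq_zero fun p hp => (hr p hp).1
  have qa : mx F (ent r.rev) *ᵥ e a = 0 := mx_mulVec_e_eq_zero fun p hp => (hrr p hp).1
  have qy : mx F (ent r.rev) *ᵥ e y = s • e a := by
    rw [col r.rev y a fun p hp => (hrr p hp).2, heq]
  let W : F → GL I27 F := fun t => xg r t * xg r.rev (-t⁻¹) * xg r t
  have e1 : ∀ t : F, (xg r t).val *ᵥ e a = e a + (t * s) • e y := fun t => by
    rw [xg_mulVec, ra, smul_smul]
  have e2 : ∀ t : F, (xg r t).val *ᵥ e y = e y := fun t => by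
    rw [xg_mulVec, ry, smul_zero, add_zero]
  have e3 : ∀ t : F, (xg r.rev t).val *ᵥ e a = e a := fun t => by
    rw [xg_mulVec, qa, smul_zero, add_zero]
  have e4 : ∀ t : F, (xg r.rev t).val *ᵥ e y = e y + (t * s) • e a := fun t => by
    rw [xg_mulVec, qy, smul_smul]
  have wa : ∀ t : F, t ≠ 0 → (W t).val *ᵥ e a = (t * s) • e y := by
    intro t ht
    have ht1 : t * s * (-t⁻¹ * s) = -1 := by
      calc t * s * (-t⁻¹ * s) = -((t * t⁻¹) * (s * s)) := by ring
        _ = -1 := by rw [mul_inv_cancel₀ ht, hs2, one_mul]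
    simp only [W, Units.val_mul, ← Matrix.mulVec_mulVec, e1, e2, e3, e4, Matrix.mulVec_add,
      Matrix.mulVec_smul, smul_add, smul_smul]
    match_scalars <;> first | ring1 | linear_combination ht1 | linear_combination (t * s) * ht1 | linear_combination (t⁻¹ * s) * ht1 | linear_combination -(t⁻¹ * s) * ht1
  have wy : ∀ t : F, t ≠ 0 → (W t).val *ᵥ e y = (-(t⁻¹ * s)) • e a := by
    intro t ht
    have ht1 : -t⁻¹ * s * (t * s) = -1 := by
      calc -t⁻¹ * s * (t * s) = -((t * t⁻¹) * (s * s)) := by ring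
        _ = -1 := by rw [mul_inv_cancel₀ ht, hs2, one_mul]
    simp only [W, Units.val_mul, ← Matrix.mulVec_mulVec, e1, e2, e3, e4, Matrix.mulVec_add,
      Matrix.mulVec_smul, smul_add, smul_smul]
    match_scalars <;> first | ring1 | linear_combination ht1 | linear_combination (t * s) * ht1 | linear_combination (t⁻¹ * s) * ht1 | linear_combination -(t⁻¹ * s) * ht1
  refine ⟨W 1 * W (-c⁻¹), ?_, ?_, ?_⟩
  · exact mul_mem (mul_mem (mul_mem (xg_mem_gen _ _) (xg_mem_gen _ _)) (xg_mem_gen _ _))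
      (mul_mem (mul_mem (xg_mem_gen _ _) (xg_mem_gen _ _)) (xg_mem_gen _ _))
  · exact (((fix_root h1 _).mul (fix_root h2 _)).mul (fix_root h1 _)).mul
      (((fix_root h1 _).mul (fix_root h2 _)).mul (fix_root h1 _))
  · rw [Units.val_mul, ← Matrix.mulVec_mulVec, Matrix.mulVec_smul, wa _ (neg_ne_zero.mpr (inv_ne_zero hc)),
      smul_smul, Matrix.mulVec_smul, wy 1 one_ne_zero, smul_smul,
      show c * (-c⁻¹ * s) * -(1⁻¹ * s) = 1 by
        calc c * (-c⁻¹ * s) * -(1⁻¹ * s) = (c * c⁻¹) * (s * s) := by ring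
          _ = 1 := by rw [hs2, mul_inv_cancel₀ hc, one_mul],
      one_smul]

theorem place (i : Fin 27) {g : GL I27 F} (hg : Fix (fixedL i) g) :
    ∃ k : GL I27 F, k ∈ gen F ∧ Fix (fixedL i) k ∧ (k * g).val *ᵥ e (seq i) = e (seq i) := by
  set L := fixedL i
  set a := seq i
  have hp := places i
  simp only [placeOK, Bool.and_eq_true, List.all_eq_true, beq_iff_eq] at hp
  obtain ⟨⟨⟨hpaths, hclr⟩, hcover⟩, hcase⟩ := hp
  have det_one : ∀ l m, l ∈ L → m ∈ L → far l m = true → th l m = a → ∀ g' : GL I27 F, Fix L g' →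
      co (g'.val *ᵥ e a) a = 1 := by
    intro l m hl hm hf hth g' hg'
    have h := pol_act hF hg'.1 (e l) (e m) (e a)
    rw [hg'.2 l hl, hg'.2 m hm, pol_e_e, pol_e_e, hf, if_pos rfl, if_pos rfl, hth, co_e, if_pos rfl,
      mul_one] at h
    obtain ⟨-, -, ht⟩ := th_th l m hf
    exact (mul_eq_left₀ (sq_ne_zero ht)).mp h
  -- make the coordinate at `a` non-zero
  obtain ⟨h, hh1, hh2, hha⟩ : ∃ h : GL I27 F, h ∈ gen F ∧ Fix L h ∧ co ((h * g).val *ᵥ e a) a ≠ 0 := by
    have fromPath : ∀ x, ((paths i).any fun q => q.1 == x) = true → co (g.val *ᵥ e a) x ≠ 0 →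
        ∃ h : GL I27 F, h ∈ gen F ∧ Fix L h ∧ co ((h * g).val *ᵥ e a) a ≠ 0 := by
      intro x hx hne
      obtain ⟨⟨x', l⟩, hq, e'⟩ := List.any_eq_true.mp hx
      rw [beq_iff_eq] at e'
      obtain ⟨hok, hend⟩ := hpaths _ hq
      simp only at e' hok hend
      subst e'
      obtain ⟨h, h1, h2, h3⟩ := chain l x' _ hok hne
      refine ⟨h, h1, h2, ?_⟩
      rw [Units.val_mul, ← Matrix.mulVec_mulVec]
      rw [hend] at h3
      exact h3
    cases hd : detBy i with
    | some q =>
      obtain ⟨l, m⟩ := q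
      simp only [hd, Bool.and_eq_true, List.contains_iff_mem, beq_iff_eq] at hcase
      obtain ⟨⟨⟨hl, hm⟩, hf⟩, hth⟩ := hcase
      refine ⟨1, one_mem _, ⟨one_mem _, fun l _ => by simp⟩, ?_⟩
      rw [one_mul, det_one l m hl hm hf hth g hg]
      exact one_ne_zero
    | none =>
      simp only [hd, Bool.and_eq_true] at hcase
      obtain ⟨-, hfar⟩ := hcase
      cases hfl : farBy i with
      | some l =>
        simp only [hfl, Bool.and_eq_true, List.contains_iff_mem, List.all_eq_true, List.mem_finRange,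
          true_implies, Bool.or_eq_true, Bool.not_eq_true'] at hfar
        obtain ⟨⟨hl, hla⟩, hall⟩ := hfar
        obtain ⟨hk, hka, -⟩ := th_th l a hla
        obtain ⟨-, -, htau⟩ := th_th l (th l a) hk
        obtain ⟨x, hfx, hx⟩ : ∃ x, far l x = true ∧ co (g.val *ᵥ e a) x ≠ 0 := by
          by_contra hcon
          push Not at hcon
          have h := pol_act hF hg.1 (e l) (e a) (e (th l a))
          rw [hg.2 l hl, pol_expand, Finset.sum_eq_zero (fun x _ => by
            rw [pol_e_e]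
            split_ifs with hf
            · rw [hcon x hf, zero_mul]
            · rw [mul_zero]), pol_comm, pol_e_e, hk, if_pos rfl, hka, co_e, if_pos rfl, mul_one] at h
          exact sq_ne_zero htau h.symm
        rcases hall x with (h | h) | h
        · rw [hfx] at h; cases h
        · exact absurd (co_dead hF hg h) hx
        · exact fromPath x h hx
      | none =>
        simp only [hfl, List.all_eq_true, List.mem_finRange, true_implies, Bool.or_eq_true] at hfar
        obtain ⟨x, hx⟩ : ∃ x, co (g.val *ᵥ e a) x ≠ 0 := by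
          by_contra hcon
          push Not at hcon
          exact act_ne_zero g (e_ne_zero a) (ext_co fun x => by rw [hcon x]; rfl)
        rcases hfar x with h | h
        · exact absurd (co_dead hF hg h) hx
        · exact fromPath x h hx
  -- clear the neighbours
  obtain ⟨k, hk1, hk2, hka, -, hkz⟩ := clear (clearBy i) (fun q hq => hclr q hq) _ hha
  set g' := k * (h * g) with hg'
  have hfix' : Fix L g' := hk2.mul (hh2.mul hg)
  have hval : g'.val *ᵥ e a = k.val *ᵥ ((h * g).val *ᵥ e a) := by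
    rw [hg', Units.val_mul k (h * g), ← Matrix.mulVec_mulVec]
  have hadj : ∀ x, adj a x = true → co (g'.val *ᵥ e a) x = 0 := by
    intro x hx
    rcases Bool.or_eq_true_iff.mp (hcover x (List.mem_finRange x)) with h' | h'
    · rcases Bool.or_eq_true_iff.mp h' with h'' | h''
      · rw [hx] at h''; cases h''
      · exact co_dead hF hfix' h''
    · obtain ⟨q, hq, e'⟩ := List.any_eq_true.mp h'
      rw [beq_iff_eq] at e'
      subst e'
      rw [hval]
      exact hkz q hq hx
  have hne : co (g'.val *ᵥ e a) a ≠ 0 := by rw [hval, hka]; exact hha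
  have heq := eq_smul_e hF hfix'.1 hne hadj
  cases hd : detBy i with
  | some q =>
    obtain ⟨l, m⟩ := q
    simp only [hd, Bool.and_eq_true, List.contains_iff_mem, beq_iff_eq] at hcase
    obtain ⟨⟨⟨hl, hm⟩, hf⟩, hth⟩ := hcase
    refine ⟨k * h, mul_mem hk1 hh1, hk2.mul hh2, ?_⟩
    rw [mul_assoc, ← hg', heq, det_one l m hl hm hf hth g' hfix', one_smul]
  | none =>
    simp only [hd, Bool.and_eq_true] at hcase
    obtain ⟨hsc, -⟩ := hcase
    cases hs : scaleBy i with
    | none => simp [hs] at hsc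
    | some q =>
      obtain ⟨r, y⟩ := q
      simp only [hs] at hsc
      obtain ⟨m, hm1, hm2, hm3⟩ := scale hsc hne
      refine ⟨m * (k * h), mul_mem hm1 (mul_mem hk1 hh1), hm2.mul (hk2.mul hh2), ?_⟩
      rw [mul_assoc, mul_assoc, ← hg', Units.val_mul, ← Matrix.mulVec_mulVec, heq, hm3]

theorem univ_eq_gen : E6univ F = gen F := by
  refine le_antisymm ?_ gen_le
  intro g hg
  suffices key : ∀ n ≤ 27, ∀ g : GL I27 F, Fix (fixedL (27 - n)) g → g ∈ gen F from
    key 27 le_rfl g ⟨hg, by simp [fixedL]⟩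
  intro n
  induction n with
  | zero =>
    intro _ g hg
    suffices g = 1 by rw [this]; exact one_mem _
    refine Units.ext ?_
    ext p q
    obtain ⟨a, rfl⟩ := ix.surjective q
    have h := congrFun (hg.2 a (seq_surjective a)) p
    simpa [e, Matrix.one_apply, Pi.single_apply] using h
  | succ n ih =>
    intro hn g hg
    have hi : 27 - (n + 1) < 27 := by omega
    obtain ⟨k, hk1, hk2, hk3⟩ := place hF ⟨27 - (n + 1), hi⟩ hg
    have hnext : Fix (fixedL (27 - n)) (k * g) := by
      refine ⟨(hk2.mul hg).1, fun l hl => ?_⟩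
      have hsplit : fixedL (27 - n) = fixedL (27 - (n + 1)) ++ [seq ⟨27 - (n + 1), hi⟩] := by
        rw [fixedL, fixedL, show 27 - n = 27 - (n + 1) + 1 by omega, List.take_succ, List.map_append]
        congr 1
        rw [List.getElem?_eq_getElem (by simpa using hi)]
        simp
      rw [hsplit, List.mem_append, List.mem_singleton] at hl
      rcases hl with hl | rfl
      · exact (hk2.mul hg).2 l hl
      · exact hk3
    have := mul_mem (inv_mem hk1) (ih (by omega) _ hnext)
    simpa using this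

end Cfsg.Agent.Lib.E6Form
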