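import Cfsg.Agent.Lib.E6Form.AdjointData
import Cfsg.Agent.Lib.E6Form.Descent
import Cfsg.Agent.Lib.ChevAut.Simple

/-!
# The isometry group of the cubic form modulo its centre is the Chevalley group of type E6
-/

set_option autoImplicit false
set_option maxRecDepth 100000
set_option linter.unusedSectionVars false

namespace Cfsg.Agent.Lib.E6Form

open Cfsg.Lie Matrix Cfsg.Agent.Lib

variable {F : Type*} [Field F]

/-- The matrix of a basis vector of the Lie algebra. -/
def io (F : Type*) [Field F] (k : chevE6.Idx) : Matrix I27 I27 F := mx F (iota k)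

theorem recov_io (s k : chevE6.Idx) :
    ((recov s).map fun p => (p.2.2 : F) * io F k (ix p.1) (ix p.2.1)).sum = if s = k then 1 else 0 := by
  have h := congrArg (Int.cast : ℤ → F) (recov_iota s k)
  rw [pairI, Int.cast_list_sum, List.map_map] at h
  simp only [io, mx_apply]
  rw [apply_ite (Int.cast : ℤ → F), Int.cast_one, Int.cast_zero] at h
  rw [← h]
  congr 1
  exact List.map_congr_left fun p _ => by simp

theorem list_sum_comb (P : Sp) (c : chevE6.Idx → F) :
    (P.map fun p => (p.2.2 : F) * (∑ k, c k • io F k) (ix p.1) (ix p.2.1)).sum =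
      ∑ k, c k * (P.map fun p => (p.2.2 : F) * io F k (ix p.1) (ix p.2.1)).sum := by
  induction P with
  | nil => simp
  | cons p P ih =>
    rw [List.map_cons, List.sum_cons, ih]
    simp only [List.map_cons, List.sum_cons, mul_add, Finset.sum_add_distrib, Matrix.sum_apply,
      Matrix.smul_apply, smul_eq_mul, Finset.mul_sum]
    congr 1
    exact Finset.sum_congr rfl fun k _ => by ring

theorem coord_unique {c d : chevE6.Idx → F} (h : ∑ k, c k • io F k = ∑ k, d k • io F k) : c = d := by
  funext s
  have := congrArg (fun M : Matrix I27 I27 F =>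
    ((recov s).map fun p => (p.2.2 : F) * M (ix p.1) (ix p.2.1)).sum) h
  simp only [list_sum_comb, recov_io, mul_ite, mul_one, mul_zero, Finset.sum_ite_eq, Finset.mem_univ,
    if_true] at this
  exact this

/-- The relation between an isometry and its action on the Lie algebra. -/
def Rel (g : GL I27 F) (h : GL chevE6.Idx F) : Prop :=
  ∀ k, g.val * io F k = (∑ s, h.val s k • io F s) * g.val

theorem Rel.one : Rel (1 : GL I27 F) 1 := fun k => by simp [Matrix.one_apply, ite_smul]

theorem comb_mul {g : GL I27 F} {h : GL chevE6.Idx F} (hg : Rel g h) (c : chevE6.Idx → F) :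
    g.val * (∑ k, c k • io F k) = (∑ s, (∑ k, h.val s k * c k) • io F s) * g.val := by
  rw [Finset.mul_sum]
  calc ∑ k, g.val * (c k • io F k) = ∑ k, (∑ s, (h.val s k * c k) • io F s) * g.val :=
        Finset.sum_congr rfl fun k _ => by
          rw [Matrix.mul_smul, hg k, ← Matrix.smul_mul, Finset.smul_sum]
          simp only [smul_smul, mul_comm]
    _ = _ := by
      rw [← Finset.sum_mul, Finset.sum_comm]
      simp only [Finset.sum_smul]

theorem Rel.mul {g₁ g₂ : GL I27 F} {h₁ h₂ : GL chevE6.Idx F} (a : Rel g₁ h₁) (b : Rel g₂ h₂) :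
    Rel (g₁ * g₂) (h₁ * h₂) := fun k => by
  rw [Units.val_mul, Matrix.mul_assoc, b k, ← Matrix.mul_assoc, comb_mul a, Matrix.mul_assoc]
  simp [Matrix.mul_apply]

theorem Rel.inv {g : GL I27 F} {h : GL chevE6.Idx F} (a : Rel g h) : Rel g⁻¹ h⁻¹ := fun k => by
  have e : g.val * (∑ s, (h⁻¹).val s k • io F s) = io F k * g.val := by
    rw [comb_mul a]
    congr 1
    have : ∀ s, ∑ j, h.val s j * (h⁻¹).val j k = if s = k then 1 else 0 := fun s => by
      rw [← Matrix.mul_apply, Units.mul_inv, Matrix.one_apply]
    simp only [this, ite_smul, one_smul, zero_smul, Finset.sum_ite_eq', Finset.mem_univ, if_true]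
  calc (g⁻¹).val * io F k = (g⁻¹).val * (io F k * g.val) * (g⁻¹).val := by
        simp [Matrix.mul_assoc]
    _ = (∑ s, (h⁻¹).val s k • io F s) * (g⁻¹).val := by
        rw [← e, ← Matrix.mul_assoc (g⁻¹).val, Units.inv_mul, Matrix.one_mul]

theorem Rel.unique {g : GL I27 F} {h h' : GL chevE6.Idx F} (a : Rel g h) (b : Rel g h') : h = h' := by
  refine Units.ext ?_
  ext s k
  have e := (a k).symm.trans (b k)
  have e' := congrArg (fun M => M * (g⁻¹).val) e
  simp only [Matrix.mul_assoc, Units.mul_inv, Matrix.mul_one] at e'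
  exact congrFun (coord_unique e') s

theorem mx_colSp (j : ℕ) (r : ChevStructure.Rt chevE6) (k : chevE6.Idx) :
    mx F (colSp j r k) = ∑ s, (ChevStructure.E chevE6 j r s k : F) • io F s := by
  have hterm : ∀ s, mx F (if ChevStructure.E chevE6 j r s k = 0 then []
      else lsmul (ChevStructure.E chevE6 j r s k) (iota s)) = (ChevStructure.E chevE6 j r s k : F) • io F s := by
    intro s
    split_ifs with h
    · simp [h, mx_nil]
    · rw [mx_lsmul, io]
  rw [colSp, mx_flatMap, List.map_congr_left fun s _ => hterm s, idxList, List.map_append,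
    List.sum_append, List.map_map, List.map_map, Fintype.sum_sum_type, Fin.sum_univ_def,
    Fin.sum_univ_def]
  rfl

theorem rel_root (r : ChevStructure.Rt chevE6) (hr : rn r ∈ gens) (t : F) :
    Rel (xg (rn r) t) (ChevStructure.Cert.E6.core.X F r t) := by
  intro k
  obtain ⟨h1, h2, h3, h4⟩ := twine r hr k
  set N := mx F (ent (rn r))
  set S : ℕ → Matrix I27 I27 F := fun j => mx F (colSp j r k)
  have i1 : N * io F k - io F k * N = S 1 := by
    have := mx_eq (R := F) h1
    rw [mx_append, mx_lsmul, mx_lmul, mx_lmul] at this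
    show _ = mx F (colSp 1 r k)
    rw [← this]
    simp [N, io, sub_eq_add_neg]
  have i2 : S 1 * N + S 2 = 0 := by
    have := mx_eq (R := F) h2
    rw [mx_append, mx_lmul, mx_nil] at this
    exact this
  have i3 : S 2 * N = 0 := by
    have := mx_eq (R := F) h3
    rw [mx_lmul, mx_nil] at this
    exact this
  have i4 : S 3 = 0 := by
    have := mx_eq (R := F) h4
    rw [mx_nil] at this
    exact this
  have hsum : ∑ s, (ChevStructure.Cert.E6.core.X F r t).val s k • io F s =
      io F k + t • S 1 + t ^ 2 • S 2 + t ^ 3 • S 3 := by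
    simp only [S, mx_colSp, ChevStructure.Core.X_val, ChevStructure.xI, Finset.sum_range_succ,
      Finset.sum_range_zero, zero_add, Matrix.add_apply, Matrix.smul_apply, smul_eq_mul,
      ChevStructure.Ek, Matrix.map_apply, eq_intCast, add_smul, Finset.sum_add_distrib,
      Finset.smul_sum, smul_smul, pow_one, pow_zero, one_mul]
    congr 3
    simp [ChevStructure.E, Matrix.one_apply, ite_smul]
  rw [hsum, i4]
  show xm F (rn r) t * io F k = _ * xm F (rn r) t
  simp only [xm, add_mul, mul_add, one_mul, mul_one, Matrix.smul_mul, Matrix.mul_smul, smul_zero,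
    add_zero, show mx F (ent (rn r)) = N from rfl, i3]
  have i2' : S 1 * N = -(S 2) := eq_neg_of_add_eq_zero_left i2
  rw [i2', show N * io F k = S 1 + io F k * N by rw [← i1, sub_add_cancel]]
  module

theorem exists_rel {g : GL I27 F} (hg : g ∈ gen F) :
    ∃ h, h ∈ chevE6.group F ∧ Rel g h := by
  induction hg using Subgroup.closure_induction with
  | mem g hg =>
    obtain ⟨r, hr, t, rfl⟩ := hg
    obtain ⟨r', rfl⟩ := gens_fund r hr
    exact ⟨_, (ChevAut.GX ChevStructure.Cert.E6.core F r' t).2, rel_root r' hr t⟩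
  | one => exact ⟨1, one_mem _, Rel.one⟩
  | mul a b _ _ ha hb =>
    obtain ⟨x, hx, hx'⟩ := ha
    obtain ⟨y, hy, hy'⟩ := hb
    exact ⟨x * y, mul_mem hx hy, hx'.mul hy'⟩
  | inv a _ ha =>
    obtain ⟨x, hx, hx'⟩ := ha
    exact ⟨x⁻¹, inv_mem hx, hx'.inv⟩

/-- The action on the Lie algebra. -/
noncomputable def adHom : ↥(gen F) →* ↥(chevE6.group F) where
  toFun g := ⟨(exists_rel g.2).choose, (exists_rel g.2).choose_spec.1⟩
  map_one' := Subtype.ext ((exists_rel (1 : gen F).2).choose_spec.2.unique Rel.one)
  map_mul' a b := Subtype.ext ((exists_rel (a * b).2).choose_spec.2.unique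
    ((exists_rel a.2).choose_spec.2.mul (exists_rel b.2).choose_spec.2))

theorem adHom_rel (g : ↥(gen F)) : Rel (g : GL I27 F) (adHom g : GL chevE6.Idx F) :=
  (exists_rel g.2).choose_spec.2

theorem adHom_surjective : Function.Surjective (adHom (F := F)) := by
  set C := ChevStructure.Cert.E6.core
  have hmem : ∀ r, rn r ∈ gens → ∀ t : F, ChevAut.GX C F r t ∈ (adHom (F := F)).range := fun r hr t =>
    ⟨⟨xg (rn r) t, xg_mem_gen _ t⟩,
      Subtype.ext ((adHom_rel ⟨xg (rn r) t, xg_mem_gen _ t⟩).unique (rel_root r hr t))⟩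
  have htop := ChevAut.eq_top C F
    (fun i t => hmem _ (rn_fund i _ (C.simple_eq i)).1 t)
    (fun i t => hmem _ (rn_fund i _ (C.simple_eq i)).2 t)
  exact MonoidHom.range_eq_top.mp htop

theorem adHom_ker : (adHom (F := F)).ker = Subgroup.center ↥(gen F) := by
  ext g
  constructor
  · intro hg
    have hcomm : ∀ k, (g : GL I27 F).val * io F k = io F k * (g : GL I27 F).val := by
      intro k
      have h := adHom_rel g k
      rw [MonoidHom.mem_ker.mp hg] at h
      simpa [Matrix.one_apply, ite_smul] using h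
    have hroot : ∀ x ∈ {y : GL I27 F | ∃ r ∈ gens, ∃ t : F, y = xg r t}, (g : GL I27 F) * x = x * g := by
      rintro _ ⟨r, hr, t, rfl⟩
      obtain ⟨r', rfl⟩ := gens_fund r hr
      refine Units.ext ?_
      rw [Units.val_mul, Units.val_mul]
      show (g : GL I27 F).val * xm F (rn r') t = xm F (rn r') t * _
      have h := hcomm (.inr r')
      simp only [io, iota] at h
      simp [xm, mul_add, add_mul, h]
    rw [Subgroup.mem_center_iff]
    intro x
    refine Subtype.ext ?_
    show (x : GL I27 F) * g = g * x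
    have hle : gen F ≤ Subgroup.centralizer {(g : GL I27 F)} := (Subgroup.closure_le _).mpr fun y hy =>
      Subgroup.mem_centralizer_singleton_iff.mpr (hroot y hy).symm
    exact Subgroup.mem_centralizer_singleton_iff.mp (hle x.2)
  · intro hg
    refine MonoidHom.mem_ker.mpr (Subtype.ext ((adHom_rel g).unique ?_))
    have hN : ∀ r, rn r ∈ gens → (g : GL I27 F).val * mx F (ent (rn r)) = mx F (ent (rn r)) * (g : GL I27 F).val := by
      intro r hr
      have h := congrArg (fun x : gen F => (x : GL I27 F).val)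
        (Subgroup.mem_center_iff.mp hg ⟨xg (rn r) 1, xg_mem_gen _ 1⟩).symm
      simpa [xg, xm, mul_add, add_mul] using h
    intro k
    suffices hk : (g : GL I27 F).val * io F k = io F k * (g : GL I27 F).val by
      simpa [Matrix.one_apply, ite_smul] using hk
    rcases k with i | r
    · obtain ⟨a, b, ha, hb, e⟩ := rootOf_idx i
      rw [io, e, mx_append, mx_lsmul, mx_lmul, mx_lmul]
      simp only [Matrix.mul_add, Matrix.add_mul, Matrix.mul_smul, Matrix.smul_mul, ← Matrix.mul_assoc,
        hN a ha, hN b hb]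
      simp only [Matrix.mul_assoc, hN a ha, hN b hb]
    · have key : ∀ r : Fin 72, (g : GL I27 F).val * mx F (ent r) = mx F (ent r) * (g : GL I27 F).val := by
        intro r
        have h := congrArg (fun x : gen F => (x : GL I27 F).val)
          (Subgroup.mem_center_iff.mp hg ⟨xg r 1, xg_mem_gen _ 1⟩).symm
        simpa [xg, xm, mul_add, add_mul] using h
      exact key (rn r)

/-- The comparison. -/
theorem main (hF : Big F) : Nonempty (E6 F ≃* ↥(chevE6.group F)) := by
  have e := univ_eq_gen hF
  have i1 : (↥(gen F) ⧸ Subgroup.center ↥(gen F)) ≃* ↥(chevE6.group F) :=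
    (QuotientGroup.quotientMulEquivOfEq adHom_ker.symm).trans
      (QuotientGroup.quotientKerEquivOfSurjective adHom adHom_surjective)
  unfold E6
  rw [e]
  exact ⟨i1⟩

end Cfsg.Agent.Lib.E6Form
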