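import Cfsg.Agent.Lib.E6Form.Elements
import Cfsg.Agent.Lib.ChevStructure.Cert.E6

/-!
# The root matrices span a copy of the Lie algebra of type E6
-/

set_option autoImplicit false
set_option maxRecDepth 100000
set_option linter.unusedSectionVars false

namespace Cfsg.Agent.Lib.E6Form

open Cfsg.Lie Cfsg.Agent.Lib

/-- The number of a root. -/
def rn (r : ChevStructure.Rt chevE6) : Fin 72 := ⟨r.val, r.isLt⟩

/-- The image of a basis vector of the Lie algebra. -/
def iota : chevE6.Idx → Sp
  | .inl i => lmul (ent (fund ⟨i.val, i.isLt⟩)) (ent (fund ⟨i.val, i.isLt⟩).rev) ++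
      lsmul (-1) (lmul (ent (fund ⟨i.val, i.isLt⟩).rev) (ent (fund ⟨i.val, i.isLt⟩)))
  | .inr s => ent (rn s)

/-- The entries recovering a coordinate. -/
def recov : chevE6.Idx → Sp
  | .inl i => recH ⟨i.val, i.isLt⟩
  | .inr s => (ent (rn s)).take 1

/-- The value of a list of entries on a sparse matrix. -/
def pairI (P : Sp) (A : Sp) : ℤ := (P.map fun p => p.2.2 * coef A p.1 p.2.1).sum

theorem recov_iota : ∀ s k, pairI (recov s) (iota k) = if s = k then 1 else 0 := by decide +kernel

/-- All basis vectors. -/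
def idxList : List chevE6.Idx :=
  (List.finRange chevE6.rank).map Sum.inl ++ (List.finRange chevE6.nroots).map Sum.inr

/-- The combination of the images given by a column of `E j r`. -/
def colSp (j : ℕ) (r : ChevStructure.Rt chevE6) (k : chevE6.Idx) : Sp :=
  idxList.flatMap fun s =>
    if ChevStructure.E chevE6 j r s k = 0 then [] else lsmul (ChevStructure.E chevE6 j r s k) (iota s)

/-- The identities between the root matrices and the action on the Lie algebra. -/
def Twine (r : ChevStructure.Rt chevE6) (k : chevE6.Idx) : Prop :=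
  Eqv (lmul (ent (rn r)) (iota k) ++ lsmul (-1) (lmul (iota k) (ent (rn r)))) (colSp 1 r k) ∧
  Eqv (lmul (colSp 1 r k) (ent (rn r)) ++ colSp 2 r k) [] ∧
  Eqv (lmul (colSp 2 r k) (ent (rn r))) [] ∧
  Eqv (colSp 3 r k) []

instance (r : ChevStructure.Rt chevE6) (k : chevE6.Idx) : Decidable (Twine r k) := by
  unfold Twine; infer_instance

theorem twine : ∀ r, rn r ∈ gens → ∀ k, Twine r k := by decide +kernel

theorem rn_fund : ∀ (i : Fin chevE6.rank) (r : ChevStructure.Rt chevE6),
    chevE6.simple i.val = r.val → rn r ∈ gens ∧ rn r.rev ∈ gens := by decide +kernel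

theorem gens_fund : ∀ g ∈ gens, ∃ r, rn r = g := fun g _ => ⟨⟨g.val, g.isLt⟩, rfl⟩

theorem rootOf_idx : ∀ (i : Fin chevE6.rank), ∃ a b : ChevStructure.Rt chevE6,
    rn a ∈ gens ∧ rn b ∈ gens ∧ iota (.inl i) =
      lmul (ent (rn a)) (ent (rn b)) ++ lsmul (-1) (lmul (ent (rn b)) (ent (rn a))) := by decide +kernel

end Cfsg.Agent.Lib.E6Form
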