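import Mathlib

/-!
# Tables: the root system of type E6 acting on the twenty-seven dimensional cubic form
-/

set_option autoImplicit false
set_option maxRecDepth 100000

namespace Cfsg.Agent.Lib.E6Form

/-- The triangles of the cubic form: the sign and three indices. -/
def tri : Fin 45 → ℤ × Fin 27 × Fin 27 × Fin 27 := ![
  (1, 0, 4, 8),
  (-1, 0, 5, 7),
  (-1, 1, 3, 8),
  (1, 1, 5, 6),
  (1, 2, 3, 7),
  (-1, 2, 4, 6),
  (1, 9, 13, 17),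
  (-1, 9, 14, 16),
  (-1, 10, 12, 17),
  (1, 10, 14, 15),
  (1, 11, 12, 16),
  (-1, 11, 13, 15),
  (1, 18, 22, 26),
  (-1, 18, 23, 25),
  (-1, 19, 21, 26),
  (1, 19, 23, 24),
  (1, 20, 21, 25),
  (-1, 20, 22, 24),
  (-1, 0, 9, 18),
  (-1, 0, 10, 21),
  (-1, 0, 11, 24),
  (-1, 1, 12, 18),
  (-1, 1, 13, 21),
  (-1, 1, 14, 24),
  (-1, 2, 15, 18),
  (-1, 2, 16, 21),
  (-1, 2, 17, 24),
  (-1, 3, 9, 19),
  (-1, 3, 10, 22),
  (-1, 3, 11, 25),
  (-1, 4, 12, 19),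
  (-1, 4, 13, 22),
  (-1, 4, 14, 25),
  (-1, 5, 15, 19),
  (-1, 5, 16, 22),
  (-1, 5, 17, 25),
  (-1, 6, 9, 20),
  (-1, 6, 10, 23),
  (-1, 6, 11, 26),
  (-1, 7, 12, 20),
  (-1, 7, 13, 23),
  (-1, 7, 14, 26),
  (-1, 8, 15, 20),
  (-1, 8, 16, 23),
  (-1, 8, 17, 26)]

/-- The entries (row, column, coefficient) of the root matrices. -/
def ent : Fin 72 → List (Fin 27 × Fin 27 × ℤ) := ![
  [(3, 15, -1), (5, 9, 1), (13, 25, 1), (14, 22, -1), (18, 7, -1), (20, 1, 1)],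
  [(0, 1, -1), (3, 4, -1), (6, 7, -1), (12, 9, 1), (13, 10, 1), (14, 11, 1)],
  [(2, 1, 1), (5, 4, 1), (8, 7, 1), (12, 15, -1), (13, 16, -1), (14, 17, -1)],
  [(3, 17, 1), (5, 11, -1), (12, 22, -1), (13, 19, 1), (24, 7, 1), (26, 1, -1)],
  [(3, 16, 1), (5, 10, -1), (12, 25, 1), (14, 19, -1), (21, 7, 1), (23, 1, -1)],
  [(6, 15, -1), (8, 9, 1), (13, 26, 1), (14, 23, -1), (18, 4, 1), (19, 1, -1)],
  [(3, 23, 1), (6, 22, -1), (13, 2, 1), (16, 1, -1), (18, 11, -1), (24, 9, 1)],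
  [(3, 26, -1), (6, 25, 1), (14, 2, -1), (17, 1, 1), (18, 10, -1), (21, 9, 1)],
  [(5, 23, -1), (8, 22, 1), (10, 1, -1), (13, 0, 1), (18, 17, 1), (24, 15, -1)],
  [(5, 26, 1), (8, 25, -1), (11, 1, 1), (14, 0, -1), (18, 16, 1), (21, 15, -1)],
  [(3, 0, 1), (4, 1, 1), (5, 2, 1), (18, 19, -1), (21, 22, -1), (24, 25, -1)],
  [(6, 17, 1), (8, 11, -1), (12, 23, -1), (13, 20, 1), (24, 4, -1), (25, 1, 1)],
  [(6, 16, 1), (8, 10, -1), (12, 26, 1), (14, 20, -1), (21, 4, -1), (22, 1, 1)],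
  [(3, 20, 1), (6, 19, -1), (12, 2, 1), (15, 1, -1), (21, 11, 1), (24, 10, -1)],
  [(5, 20, -1), (8, 19, 1), (9, 1, -1), (12, 0, 1), (21, 17, -1), (24, 16, 1)],
  [(6, 0, 1), (7, 1, 1), (8, 2, 1), (18, 20, -1), (21, 23, -1), (24, 26, -1)],
  [(0, 15, -1), (2, 9, 1), (13, 24, 1), (14, 21, -1), (19, 7, 1), (20, 4, -1)],
  [(0, 22, -1), (3, 21, 1), (13, 8, -1), (16, 7, 1), (20, 11, 1), (26, 9, -1)],
  [(0, 25, 1), (3, 24, -1), (14, 8, 1), (17, 7, -1), (20, 10, 1), (23, 9, -1)],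
  [(2, 22, 1), (5, 21, -1), (10, 7, 1), (13, 6, -1), (20, 17, -1), (26, 15, 1)],
  [(2, 25, -1), (5, 24, 1), (11, 7, -1), (14, 6, 1), (20, 16, -1), (23, 15, 1)],
  [(3, 6, -1), (4, 7, -1), (5, 8, -1), (20, 19, 1), (23, 22, 1), (26, 25, 1)],
  [(10, 9, 1), (13, 12, 1), (16, 15, 1), (18, 21, -1), (19, 22, -1), (20, 23, -1)],
  [(11, 9, -1), (14, 12, -1), (17, 15, -1), (18, 24, 1), (19, 25, 1), (20, 26, 1)],
  [(3, 12, 1), (4, 9, -1), (16, 25, 1), (17, 22, -1), (18, 8, -1), (20, 2, 1)],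
  [(4, 15, 1), (5, 12, -1), (10, 25, 1), (11, 22, -1), (18, 6, -1), (20, 0, 1)],
  [(0, 17, 1), (2, 11, -1), (12, 21, -1), (13, 18, 1), (25, 7, -1), (26, 4, 1)],
  [(0, 16, 1), (2, 10, -1), (12, 24, 1), (14, 18, -1), (22, 7, -1), (23, 4, 1)],
  [(0, 19, -1), (3, 18, 1), (12, 8, -1), (15, 7, 1), (23, 11, -1), (26, 10, 1)],
  [(2, 19, 1), (5, 18, -1), (9, 7, 1), (12, 6, -1), (23, 17, 1), (26, 16, -1)],
  [(0, 23, -1), (6, 21, 1), (13, 5, 1), (16, 4, -1), (19, 11, -1), (25, 9, 1)],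
  [(0, 26, 1), (6, 24, -1), (14, 5, -1), (17, 4, 1), (19, 10, -1), (22, 9, 1)],
  [(0, 2, 1), (3, 5, 1), (6, 8, 1), (15, 9, -1), (16, 10, -1), (17, 11, -1)],
  [(2, 23, -1), (8, 21, 1), (10, 4, 1), (13, 3, -1), (19, 17, -1), (25, 15, 1)],
  [(2, 26, 1), (8, 24, -1), (11, 4, -1), (14, 3, 1), (19, 16, -1), (22, 15, 1)],
  [(10, 11, 1), (13, 14, 1), (16, 17, 1), (24, 21, -1), (25, 22, -1), (26, 23, -1)],
  [(11, 10, 1), (14, 13, 1), (17, 16, 1), (21, 24, -1), (22, 25, -1), (23, 26, -1)],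
  [(3, 14, 1), (4, 11, -1), (15, 22, 1), (16, 19, -1), (24, 8, -1), (26, 2, 1)],
  [(3, 13, -1), (4, 10, 1), (15, 25, 1), (17, 19, -1), (21, 8, 1), (23, 2, -1)],
  [(2, 0, 1), (5, 3, 1), (8, 6, 1), (9, 15, -1), (10, 16, -1), (11, 17, -1)],
  [(4, 17, 1), (5, 14, -1), (9, 22, 1), (10, 19, -1), (24, 6, -1), (26, 0, 1)],
  [(4, 16, -1), (5, 13, 1), (9, 25, 1), (11, 19, -1), (21, 6, 1), (23, 0, -1)],
  [(6, 12, -1), (7, 9, 1), (16, 26, -1), (17, 23, 1), (18, 5, -1), (19, 2, 1)],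
  [(7, 15, 1), (8, 12, -1), (10, 26, 1), (11, 23, -1), (18, 3, 1), (19, 0, -1)],
  [(4, 23, 1), (7, 22, -1), (10, 2, -1), (16, 0, 1), (18, 14, -1), (24, 12, 1)],
  [(4, 26, 1), (7, 25, -1), (11, 2, -1), (17, 0, 1), (18, 13, 1), (21, 12, -1)],
  [(0, 20, 1), (6, 18, -1), (12, 5, -1), (15, 4, 1), (22, 11, -1), (25, 10, 1)],
  [(2, 20, 1), (8, 18, -1), (9, 4, -1), (12, 3, 1), (22, 17, -1), (25, 16, 1)],
  [(9, 11, -1), (12, 14, -1), (15, 17, -1), (24, 18, 1), (25, 19, 1), (26, 20, 1)],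
  [(9, 10, 1), (12, 13, 1), (15, 16, 1), (21, 18, -1), (22, 19, -1), (23, 20, -1)],
  [(6, 3, -1), (7, 4, -1), (8, 5, -1), (19, 20, 1), (22, 23, 1), (25, 26, 1)],
  [(6, 14, 1), (7, 11, -1), (15, 23, 1), (16, 20, -1), (24, 5, 1), (25, 2, -1)],
  [(6, 13, -1), (7, 10, 1), (15, 26, 1), (17, 20, -1), (21, 5, -1), (22, 2, 1)],
  [(7, 17, -1), (8, 14, 1), (9, 23, -1), (10, 20, 1), (24, 3, -1), (25, 0, 1)],
  [(7, 16, 1), (8, 13, -1), (9, 26, -1), (11, 20, 1), (21, 3, 1), (22, 0, -1)],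
  [(4, 20, -1), (7, 19, 1), (9, 2, 1), (15, 0, -1), (21, 14, -1), (24, 13, 1)],
  [(0, 6, 1), (1, 7, 1), (2, 8, 1), (20, 18, -1), (23, 21, -1), (26, 24, -1)],
  [(0, 12, 1), (1, 9, -1), (16, 24, 1), (17, 21, -1), (19, 8, 1), (20, 5, -1)],
  [(1, 15, -1), (2, 12, 1), (10, 24, -1), (11, 21, 1), (19, 6, -1), (20, 3, 1)],
  [(1, 22, 1), (4, 21, -1), (10, 8, -1), (16, 6, 1), (20, 14, -1), (26, 12, 1)],
  [(1, 25, 1), (4, 24, -1), (11, 8, -1), (17, 6, 1), (20, 13, 1), (23, 12, -1)],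
  [(0, 3, 1), (1, 4, 1), (2, 5, 1), (19, 18, -1), (22, 21, -1), (25, 24, -1)],
  [(0, 14, -1), (1, 11, 1), (15, 21, -1), (16, 18, 1), (25, 8, -1), (26, 5, 1)],
  [(0, 13, 1), (1, 10, -1), (15, 24, -1), (17, 18, 1), (22, 8, 1), (23, 5, -1)],
  [(1, 17, 1), (2, 14, -1), (9, 21, 1), (10, 18, -1), (25, 6, 1), (26, 3, -1)],
  [(1, 16, -1), (2, 13, 1), (9, 24, 1), (11, 18, -1), (22, 6, -1), (23, 3, 1)],
  [(1, 19, -1), (4, 18, 1), (9, 8, 1), (15, 6, -1), (23, 14, -1), (26, 13, 1)],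
  [(1, 23, -1), (7, 21, 1), (10, 5, -1), (16, 3, 1), (19, 14, -1), (25, 12, 1)],
  [(1, 26, -1), (7, 24, 1), (11, 5, -1), (17, 3, 1), (19, 13, 1), (22, 12, -1)],
  [(1, 2, 1), (4, 5, 1), (7, 8, 1), (15, 12, -1), (16, 13, -1), (17, 14, -1)],
  [(1, 0, -1), (4, 3, -1), (7, 6, -1), (9, 12, 1), (10, 13, 1), (11, 14, 1)],
  [(1, 20, 1), (7, 18, -1), (9, 5, 1), (15, 3, -1), (22, 14, -1), (25, 13, 1)]]

/-- The fundamental roots. -/
def fund : Fin 6 → Fin 72 := ![56, 46, 42, 39, 37, 36]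

/-- A root as a commutator of a fundamental or opposite one and an earlier one: (first, second, sign, place). -/
def deriv : Fin 72 → Fin 72 × Fin 72 × ℤ × ℕ := ![
  (25, 1, -1, 60),
  (32, 2, -1, 58),
  (29, 5, -1, 57),
  (29, 6, -1, 56),
  (29, 7, -1, 55),
  (34, 6, -1, 50),
  (32, 8, -1, 48),
  (32, 9, -1, 47),
  (15, 19, 1, 44),
  (15, 20, 1, 43),
  (15, 21, 1, 42),
  (35, 12, -1, 32),
  (34, 13, -1, 27),
  (32, 14, -1, 22),
  (15, 29, 1, 17),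
  (15, 15, 0, 0),
  (34, 17, -1, 49),
  (32, 19, -1, 46),
  (32, 20, -1, 45),
  (35, 20, -1, 31),
  (34, 21, -1, 26),
  (29, 24, -1, 20),
  (35, 23, -1, 29),
  (34, 24, -1, 24),
  (25, 32, 1, 18),
  (25, 25, 0, 0),
  (35, 27, -1, 30),
  (34, 28, -1, 25),
  (29, 32, 1, 19),
  (29, 29, 0, 0),
  (35, 31, -1, 28),
  (32, 34, 1, 21),
  (32, 32, 0, 0),
  (34, 35, 1, 23),
  (34, 34, 0, 0),
  (35, 35, 0, 0),
  (36, 36, 0, 0),
  (37, 37, 0, 0),
  (37, 36, -1, 7),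
  (39, 39, 0, 0),
  (39, 37, -1, 5),
  (36, 40, 1, 12),
  (42, 42, 0, 0),
  (42, 39, -1, 3),
  (37, 43, 1, 9),
  (36, 44, 1, 14),
  (46, 46, 0, 0),
  (46, 39, -1, 2),
  (37, 47, 1, 8),
  (36, 48, 1, 13),
  (42, 47, 1, 4),
  (37, 50, 1, 10),
  (36, 51, 1, 15),
  (39, 51, 1, 36),
  (39, 52, 1, 37),
  (37, 54, 1, 40),
  (56, 56, 0, 0),
  (56, 42, -1, 1),
  (39, 57, 1, 6),
  (37, 58, 1, 11),
  (36, 59, 1, 16),
  (56, 50, -1, 33),
  (56, 51, -1, 34),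
  (56, 52, -1, 35),
  (39, 62, 1, 38),
  (39, 63, 1, 39),
  (37, 65, 1, 41),
  (42, 64, 1, 51),
  (42, 65, 1, 52),
  (42, 66, 1, 53),
  (39, 69, 1, 54),
  (46, 70, 1, 59)]

/-- The order in which the basis vectors are fixed. -/
def seq : Fin 27 → Fin 27 := ![0, 4, 8, 1, 3, 2, 6, 5, 7, 9, 18, 12, 15, 19, 20, 10, 14, 16, 11, 13, 17, 21, 22, 23, 24, 25, 26]

/-- A triangle through the next vector with two fixed vectors. -/
def detBy : Fin 27 → Option (Fin 27 × Fin 27) := ![none, none, some (0, 4), none, some (8, 1), none, some (4, 2), some (1, 6), some (0, 5), none, some (0, 9), some (1, 18), some (2, 18), some (4, 12), some (8, 15), none, some (15, 10), some (9, 14), some (12, 16), some (15, 11), some (9, 13), some (0, 10), some (4, 13), some (8, 16), some (0, 11), some (4, 14), some (8, 17)]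

/-- A fixed vector opposite to the next one. -/
def farBy : Fin 27 → Option (Fin 27) := ![none, some 0, some 0, some 8, some 8, some 4, some 4, some 0, some 0, some 0, some 0, some 4, some 8, some 4, some 8, some 0, some 4, some 8, some 0, some 4, some 8, some 0, some 4, some 8, some 0, some 4, some 8]

/-- A root scaling the next vector, with the vector it is moved to. -/
def scaleBy : Fin 27 → Option (Fin 72 × Fin 27) := ![some (8, 13), some (2, 5), none, some (0, 20), none, some (42, 19), none, none, none, some (22, 10), none, none, none, none, none, some (36, 11), none, none, none, none, none, none, none, none, none, none, none]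

/-- Chains of roots leading to the next vector. -/
def paths : Fin 27 → List (Fin 27 × List (Fin 72 × Fin 27)) := ![
  [(0, []), (1, [(1, 0)]), (2, [(32, 0)]), (3, [(61, 0)]), (4, [(61, 1), (1, 0)]), (5, [(63, 23), (30, 0)]), (6, [(56, 0)]), (7, [(56, 1), (1, 0)]), (8, [(63, 22), (17, 0)]), (9, [(57, 1), (1, 0)]), (10, [(63, 1), (1, 0)]), (11, [(62, 1), (1, 0)]), (12, [(57, 0)]), (13, [(63, 0)]), (14, [(62, 0)]), (15, [(16, 0)]), (16, [(27, 0)]), (17, [(26, 0)]), (18, [(63, 17), (26, 0)]), (19, [(28, 0)]), (20, [(46, 0)]), (21, [(62, 15), (16, 0)]), (22, [(17, 0)]), (23, [(30, 0)]), (24, [(63, 15), (16, 0)]), (25, [(18, 0)]), (26, [(31, 0)])],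
  [(4, []), (5, [(69, 4)]), (7, [(21, 4)]), (8, [(69, 7), (21, 4)]), (9, [(24, 4)]), (10, [(38, 4)]), (11, [(37, 4)]), (18, [(66, 4)]), (21, [(59, 4)]), (24, [(60, 4)])],
  [(8, [])],
  [(1, []), (3, [(71, 15), (58, 1)]), (15, [(58, 1)]), (16, [(65, 1)]), (17, [(64, 1)]), (20, [(71, 1)]), (23, [(67, 1)]), (26, [(68, 1)])],
  [(3, [])],
  [(2, []), (19, [(29, 2)]), (22, [(19, 2)]), (25, [(20, 2)])],
  [(6, [])],
  [(5, [])],
  [(7, [])],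
  [(9, []), (10, [(49, 9)]), (11, [(48, 9)])],
  [(18, [])],
  [(12, [])],
  [(15, [])],
  [(19, [])],
  [(20, [])],
  [(10, []), (11, [(35, 10)])],
  [(14, [])],
  [(16, [])],
  [(11, [])],
  [(13, [])],
  [(17, [])],
  [(21, [])],
  [(22, [])],
  [(23, [])],
  [(24, [])],
  [(25, [])],
  [(26, [])]]

/-- Roots clearing the neighbours of the next vector. -/
def clearBy : Fin 27 → List (Fin 27 × Fin 72) := ![
  [(1, 70), (2, 39), (3, 10), (6, 15), (12, 14), (13, 8), (14, 9), (15, 55), (16, 44), (17, 45), (19, 43), (20, 25), (22, 54), (23, 41), (25, 53), (26, 40)],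
  [(1, 61), (3, 1), (5, 2), (7, 50), (9, 47), (10, 33), (11, 34), (15, 46), (16, 30), (17, 31), (18, 5), (20, 16), (21, 12), (23, 27), (24, 11), (26, 26)],
  [(2, 56), (5, 21), (6, 32), (7, 69), (9, 66), (10, 59), (11, 60), (12, 28), (13, 17), (14, 18), (18, 24), (19, 57), (21, 38), (22, 63), (24, 37), (25, 62)],
  [(15, 13), (16, 6), (17, 7), (20, 0), (23, 4), (26, 3)],
  [(15, 71), (16, 67), (17, 68), (20, 58), (23, 65), (26, 64)],
  [(19, 42), (22, 52), (25, 51)],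
  [(12, 29), (13, 19), (14, 20)],
  [],
  [],
  [(10, 22), (11, 23)],
  [(21, 49), (24, 48)],
  [],
  [],
  [],
  [],
  [(11, 36)],
  [(13, 35)],
  [],
  [],
  [],
  [],
  [],
  [],
  [],
  [],
  [],
  []]

/-- The diagonal entries recovering the coroot coordinates. -/
def recH : Fin 6 → List (Fin 27 × Fin 27 × ℤ) := ![
  [(1, 1, 1)],
  [(0, 0, 1), (2, 2, -1), (3, 3, -1), (9, 9, 1)],
  [(1, 1, 1), (2, 2, -1), (3, 3, -1)],
  [(1, 1, 1), (2, 2, -1), (3, 3, -1), (9, 9, 1)],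
  [(1, 1, 1), (2, 2, -1), (9, 9, 1)],
  [(0, 0, -1), (1, 1, 1), (10, 10, -1)]]

end Cfsg.Agent.Lib.E6Form
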