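import Cfsg.Prelude.Def_E6
import Cfsg.Agent.Lib.E6Form.Data

/-!
# The cubic form on twenty-seven coordinates through its triangles
-/

set_option autoImplicit false
set_option maxRecDepth 100000
set_option linter.unusedSectionVars false

namespace Cfsg.Agent.Lib.E6Form

open Cfsg.Lie Matrix

/-- The coordinates, numbered. -/
def ix : Fin 27 ≃ I27 where
  toFun n := (⟨n.val / 9, by omega⟩, ⟨n.val / 3 % 3, by omega⟩, ⟨n.val % 3, by omega⟩)
  invFun p := ⟨9 * p.1.val + 3 * p.2.1.val + p.2.2.val, by omega⟩
  left_inv n := Fin.ext (by simp only; omega)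
  right_inv p := by
    obtain ⟨⟨a, ha⟩, ⟨b, hb⟩, ⟨c, hc⟩⟩ := p
    simp only [Prod.mk.injEq, Fin.mk.injEq]
    omega

variable {R : Type*} [CommRing R]

/-- The sign of a triangle. -/
def sg (t : Fin 45) : ℤ := (tri t).1
/-- The first vertex of a triangle. -/
def va (t : Fin 45) : Fin 27 := (tri t).2.1
/-- The second vertex of a triangle. -/
def vb (t : Fin 45) : Fin 27 := (tri t).2.2.1
/-- The third vertex of a triangle. -/
def vc (t : Fin 45) : Fin 27 := (tri t).2.2.2

/-- A coordinate. -/
def co (v : I27 → R) (a : Fin 27) : R := v (ix a)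

theorem cubicT_eq (v : I27 → R) :
    cubicT v = ∑ t, (sg t : R) * (co v (va t) * co v (vb t) * co v (vc t)) := by
  simp only [Fin.sum_univ_succ, Finset.univ_eq_empty, Finset.sum_empty]
  simp [cubicT, mat3, Matrix.det_fin_three, Matrix.trace_fin_three, Matrix.mul_apply,
    Fin.sum_univ_three, sg, va, vb, vc, tri, co, ix]
  ring

/-- The derivative of the form at `v` in the direction `u`. -/
def der (v u : I27 → R) : R :=
  ∑ t, (sg t : R) * (co u (va t) * co v (vb t) * co v (vc t) +
    co v (va t) * co u (vb t) * co v (vc t) + co v (va t) * co v (vb t) * co u (vc t))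

/-- The symmetric trilinear form. -/
def pol (u v w : I27 → R) : R :=
  ∑ t, (sg t : R) * (co u (va t) * co v (vb t) * co w (vc t) + co u (va t) * co w (vb t) * co v (vc t) +
    co v (va t) * co u (vb t) * co w (vc t) + co v (va t) * co w (vb t) * co u (vc t) +
    co w (va t) * co u (vb t) * co v (vc t) + co w (va t) * co v (vb t) * co u (vc t))

theorem co_add (v w : I27 → R) (a : Fin 27) : co (v + w) a = co v a + co w a := rfl

theorem co_smul (s : R) (v : I27 → R) (a : Fin 27) : co (s • v) a = s * co v a := rfl

theorem cubicT_add_smul (v u : I27 → R) (s : R) :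
    cubicT (v + s • u) = cubicT v + s * der v u + s ^ 2 * der u v + s ^ 3 * cubicT u := by
  simp only [cubicT_eq, der, Finset.mul_sum, ← Finset.sum_add_distrib]
  refine Finset.sum_congr rfl fun t _ => ?_
  simp only [co_add, co_smul]
  ring

theorem pol_eq (u v w : I27 → R) : pol u v w = der (v + w) u - der v u - der w u := by
  simp only [pol, der, ← Finset.sum_sub_distrib]
  refine Finset.sum_congr rfl fun t _ => ?_
  simp only [co_add]
  ring

/-- The unit vector of a coordinate. -/
def e (a : Fin 27) : I27 → R := Pi.single (ix a) 1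

theorem co_e (a b : Fin 27) : co (e a : I27 → R) b = if b = a then 1 else 0 := by
  simp [co, e, Pi.single_apply]

theorem ext_co {v w : I27 → R} (h : ∀ a, co v a = co w a) : v = w :=
  funext fun p => by simpa [co] using h (ix.symm p)

theorem e_expand (v : I27 → R) : v = ∑ a, co v a • (e a : I27 → R) := by
  refine ext_co fun b => ?_
  simp [co, e, Pi.single_apply, Finset.sum_apply]

/-- The coefficient of a product of two coordinates in a derivative. -/
theorem der_e (v : I27 → R) (k : Fin 27) :
    der v (e k) = ∑ t, (sg t : R) * ((if va t = k then co v (vb t) * co v (vc t) else 0) +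
      (if vb t = k then co v (va t) * co v (vc t) else 0) +
      (if vc t = k then co v (va t) * co v (vb t) else 0)) := by
  simp only [der, co_e]
  refine Finset.sum_congr rfl fun t _ => ?_
  split_ifs <;> ring

end Cfsg.Agent.Lib.E6Form
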