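import Cfsg.Agent.Lib.E6Form.Basic

/-!
# The incidence of coordinates and triangles
-/

set_option autoImplicit false
set_option maxRecDepth 100000
set_option linter.unusedSectionVars false

namespace Cfsg.Agent.Lib.E6Form

open Cfsg.Lie

/-- The third vertex, if both points are in the triangle. -/
def other (t : Fin 45) (a b : Fin 27) : Option (Fin 27) :=
  if va t = a ∧ vb t = b ∨ va t = b ∧ vb t = a then some (vc t)
  else if va t = a ∧ vc t = b ∨ va t = b ∧ vc t = a then some (vb t)
  else if vb t = a ∧ vc t = b ∨ vb t = b ∧ vc t = a then some (va t)
  else none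

/-- The triangle through two points. -/
def triOf (a b : Fin 27) : Option (Fin 45) :=
  (List.finRange 45).find? fun t => (other t a b).isSome

/-- Two points on a common triangle. -/
def far (a b : Fin 27) : Bool := (triOf a b).isSome

/-- The third vertex on the triangle through two points. -/
def th (a b : Fin 27) : Fin 27 := ((triOf a b).bind fun t => other t a b).getD a

/-- The sign of the triangle through two points. -/
def tau (a b : Fin 27) : ℤ := ((triOf a b).map sg).getD 0

/-- Two distinct points on no common triangle. -/
def adj (a b : Fin 27) : Bool := !(a == b) && !(far a b)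

theorem far_self : ∀ a, far a a = false := by decide +kernel

theorem th_th : ∀ a b, far a b = true →
    far a (th a b) = true ∧ th a (th a b) = b ∧ tau a b * tau a b = 1 := by
  decide +kernel

theorem tri_distinct : ∀ t, va t ≠ vb t ∧ va t ≠ vc t ∧ vb t ≠ vc t := by decide +kernel

theorem other_unique : ∀ a b t, (other t a b).isSome = true →
    triOf a b = some t := by decide +kernel

theorem around : ∀ a k t, far a k = true → (va t = k → triOf a k = some t ∨ adj a (vb t) = true ∨ adj a (vc t) = true) ∧
    (vb t = k → triOf a k = some t ∨ adj a (va t) = true ∨ adj a (vc t) = true) ∧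
    (vc t = k → triOf a k = some t ∨ adj a (va t) = true ∨ adj a (vb t) = true) := by
  decide +kernel

variable {R : Type*} [CommRing R]

theorem pol_comm (u v w : I27 → R) : pol u v w = pol u w v := by
  simp only [pol]
  refine Finset.sum_congr rfl fun t _ => ?_
  ring

theorem pol_e_e (a b : Fin 27) (w : I27 → R) :
    pol (e a) (e b) w = if far a b = true then (tau a b : R) * co w (th a b) else 0 := by
  have hterm : ∀ t : Fin 45, (sg t : R) * (co (e a) (va t) * co (e b) (vb t) * co w (vc t) +
      co (e a) (va t) * co w (vb t) * co (e b) (vc t) + co (e b) (va t) * co (e a) (vb t) * co w (vc t) +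
      co (e b) (va t) * co w (vb t) * co (e a) (vc t) + co w (va t) * co (e a) (vb t) * co (e b) (vc t) +
      co w (va t) * co (e b) (vb t) * co (e a) (vc t)) =
      (sg t : R) * ((other t a b).map (co w)).getD 0 := by
    intro t
    obtain ⟨h1, h2, h3⟩ := tri_distinct t
    simp only [co_e, other]
    rcases eq_or_ne a b with rfl | hab
    · by_cases p1 : va t = a <;> by_cases p3 : vb t = a <;> by_cases p5 : vc t = a <;>
        first
          | exact absurd (p1.trans p3.symm) h1
          | exact absurd (p1.trans p5.symm) h2
          | exact absurd (p3.trans p5.symm) h3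
          | simp [p1, p3, p5]
    by_cases p1 : va t = a <;> by_cases p2 : va t = b <;> by_cases p3 : vb t = a <;>
      by_cases p4 : vb t = b <;> by_cases p5 : vc t = a <;> by_cases p6 : vc t = b <;>
      first
        | exact absurd (p1.trans p3.symm) h1
        | exact absurd (p2.trans p4.symm) h1
        | exact absurd (p1.trans p5.symm) h2
        | exact absurd (p2.trans p6.symm) h2
        | exact absurd (p3.trans p5.symm) h3
        | exact absurd (p4.trans p6.symm) h3
        | exact absurd (p1.symm.trans p2) hab
        | exact absurd (p3.symm.trans p4) hab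
        | exact absurd (p5.symm.trans p6) hab
        | simp [p1, p2, p3, p4, p5, p6, hab, hab.symm]
  rw [pol, Finset.sum_congr rfl fun t _ => hterm t]
  cases h : triOf a b with
  | none =>
    rw [if_neg (by simp [far, h])]
    refine Finset.sum_eq_zero fun t _ => ?_
    cases ho : other t a b with
    | none => simp
    | some z => simp [other_unique a b t (by simp [ho])] at h
  | some t₀ =>
    rw [if_pos (by simp [far, h]), Finset.sum_eq_single t₀]
    · have ho : (other t₀ a b).isSome = true := by
        simpa using List.find?_some h
      obtain ⟨z, hz⟩ := Option.isSome_iff_exists.mp ho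
      simp [th, tau, h, hz]
    · intro t _ ht
      cases ho : other t a b with
      | none => simp
      | some z =>
        have h' := other_unique a b t (by simp [ho])
        rw [h] at h'
        exact absurd (Option.some.inj h').symm ht
    · simp

theorem der_single (a : Fin 27) (u : I27 → R) : der (e a : I27 → R) u = 0 := by
  refine Finset.sum_eq_zero fun t _ => ?_
  obtain ⟨h1, h2, h3⟩ := tri_distinct t
  simp only [co_e]
  split_ifs <;> simp_all

/-- For a singular vector without coordinates next to `a`, each opposite coordinate is killed. -/
theorem opposite_mul (v : I27 → R) {a k : Fin 27} (hf : far a k = true)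
    (hv : ∀ x, adj a x = true → co v x = 0) :
    der v (e k) = (tau a k : R) * (co v a * co v (th a k)) := by
  cases h : triOf a k with
  | none => simp [far, h] at hf
  | some t₀ =>
    rw [der_e, Finset.sum_eq_single t₀]
    · have ho : (other t₀ a k).isSome = true := by simpa using List.find?_some h
      obtain ⟨h1, h2, h3⟩ := tri_distinct t₀
      simp only [th, tau, h, Option.map_some, Option.getD_some, Option.bind_some]
      unfold other at ho ⊢
      by_cases q1 : va t₀ = a ∧ vb t₀ = k ∨ va t₀ = k ∧ vb t₀ = a
      · rw [if_pos q1]
        rcases q1 with ⟨rfl, rfl⟩ | ⟨rfl, rfl⟩ <;> simp [h1, h2, h3, Ne.symm h1, Ne.symm h2, Ne.symm h3] <;> ring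
      rw [if_neg q1] at ho ⊢
      by_cases q2 : va t₀ = a ∧ vc t₀ = k ∨ va t₀ = k ∧ vc t₀ = a
      · rw [if_pos q2]
        rcases q2 with ⟨rfl, rfl⟩ | ⟨rfl, rfl⟩ <;> simp [h1, h2, h3, Ne.symm h1, Ne.symm h2, Ne.symm h3] <;> ring
      rw [if_neg q2] at ho ⊢
      by_cases q3 : vb t₀ = a ∧ vc t₀ = k ∨ vb t₀ = k ∧ vc t₀ = a
      · rw [if_pos q3]
        rcases q3 with ⟨rfl, rfl⟩ | ⟨rfl, rfl⟩ <;> simp [h1, h2, h3, Ne.symm h1, Ne.symm h2, Ne.symm h3] <;> ring
      · rw [if_neg q3] at ho
        simp at ho
    · intro t _ ht
      obtain ⟨ra, rb, rc⟩ := around a k t hf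
      have hne : triOf a k ≠ some t := fun e => ht (Option.some.inj (e.symm.trans h))
      have e1 : (if va t = k then co v (vb t) * co v (vc t) else 0) = 0 := by
        split_ifs with q
        · rcases ra q with r | r | r
          · exact absurd r hne
          all_goals simp [hv _ r]
        · rfl
      have e2 : (if vb t = k then co v (va t) * co v (vc t) else 0) = 0 := by
        split_ifs with q
        · rcases rb q with r | r | r
          · exact absurd r hne
          all_goals simp [hv _ r]
        · rfl
      have e3 : (if vc t = k then co v (va t) * co v (vb t) else 0) = 0 := by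
        split_ifs with q
        · rcases rc q with r | r | r
          · exact absurd r hne
          all_goals simp [hv _ r]
        · rfl
      rw [e1, e2, e3]
      simp
    · simp

end Cfsg.Agent.Lib.E6Form
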