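import Cfsg.Agent.Lib.E6Form.Elements
import Cfsg.Agent.Lib.E6Form.Incidence

/-!
# The conditions on the tables used in the descent
-/

set_option autoImplicit false
set_option maxRecDepth 100000
set_option linter.unusedSectionVars false

namespace Cfsg.Agent.Lib.E6Form

/-- The vectors fixed before a given place. -/
def fixedL (n : ℕ) : List (Fin 27) := ((List.finRange 27).take n).map seq

/-- A coordinate forced to vanish in the image of `a` by the fixed vectors `L`. -/
def dead (L : List (Fin 27)) (a x : Fin 27) : Bool :=
  L.any fun l => (adj l a || l == a) && far l x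

/-- A root matrix killing the fixed vectors. -/
def rootOK (L : List (Fin 27)) (r : Fin 72) : Bool := (ent r).all fun p => !(L.contains p.2.1)

/-- A chain of roots from `x`. -/
def pathOK (L : List (Fin 27)) : Fin 27 → List (Fin 72 × Fin 27) → Bool
  | _, [] => true
  | x, (r, y) :: l => rootOK L r && (coef (ent r) y x * coef (ent r) y x == 1) &&
      ((ent r).all fun p => !(p.1 == y) || p.2.1 == x) && pathOK L y l

/-- The end of a chain. -/
def pathEnd : Fin 27 → List (Fin 72 × Fin 27) → Fin 27
  | x, [] => x
  | _, (_, y) :: l => pathEnd y l

/-- A root clearing a neighbour. -/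
def clearOK (L : List (Fin 27)) (a x : Fin 27) (r : Fin 72) : Bool :=
  rootOK L r && (coef (ent r) x a * coef (ent r) x a == 1) &&
    (ent r).all fun p => !(p.1 == a) && (!(adj a p.1) || p.1 == x) && (!(p.1 == x) || p.2.1 == a)

/-- A root which scales `a` and the vector it is moved to. -/
def scaleOK (L : List (Fin 27)) (a : Fin 27) (r : Fin 72) (y : Fin 27) : Bool :=
  rootOK L r && rootOK L r.rev && (coef (ent r) y a * coef (ent r) y a == 1) &&
    (coef (ent r.rev) a y == coef (ent r) y a) &&
    ((ent r).all fun p => !(p.2.1 == y) && (!(p.2.1 == a) || p.1 == y)) &&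
    (ent r.rev).all fun p => !(p.2.1 == a) && (!(p.2.1 == y) || p.1 == a)

/-- Everything needed at one place. -/
def placeOK (i : Fin 27) : Bool :=
  ((paths i).all fun q => pathOK (fixedL i) q.1 q.2 && pathEnd q.1 q.2 == seq i) &&
    ((clearBy i).all fun q => clearOK (fixedL i) (seq i) q.1 q.2) &&
    ((List.finRange 27).all fun x =>
      !(adj (seq i) x) || dead (fixedL i) (seq i) x || (clearBy i).any fun q => q.1 == x) &&
    match detBy i with
    | some (l, m) => (fixedL i).contains l && (fixedL i).contains m && far l m && th l m == seq i
    | none => (match scaleBy i with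
        | some (r, y) => scaleOK (fixedL i) (seq i) r y
        | none => false) &&
      match farBy i with
      | some l => (fixedL i).contains l && far l (seq i) &&
          (List.finRange 27).all fun x => !(far l x) || dead (fixedL i) (seq i) x ||
            (paths i).any fun q => q.1 == x
      | none => (List.finRange 27).all fun x =>
          dead (fixedL i) (seq i) x || (paths i).any fun q => q.1 == x

theorem places : ∀ i, placeOK i = true := by decide +kernel

theorem seq_surjective : ∀ x, x ∈ fixedL 27 := by decide +kernel

end Cfsg.Agent.Lib.E6Form
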