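import Cfsg.Agent.Lib.E6Form.Sparse

/-!
# Root elements of the isometry group of the cubic form
-/

set_option autoImplicit false
set_option maxRecDepth 100000
set_option linter.unusedSectionVars false

namespace Cfsg.Agent.Lib.E6Form

open Cfsg.Lie Matrix

/-- The fundamental roots and their opposites. -/
def gens : List (Fin 72) := ((List.finRange 6).map fund) ++ ((List.finRange 6).map fun i => (fund i).rev)

/-- The column of the only entry in a row. -/
def srcOf (A : Sp) (a : Fin 27) : Fin 27 := ((A.find? fun p => p.1 = a).map fun p => p.2.1).getD a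

theorem ent_src : ∀ r, ∀ p ∈ ent r, p.2.1 = srcOf (ent r) p.1 := by decide +kernel

theorem ent_sq : ∀ r, Eqv (lmul (ent r) (ent r)) [] := by decide +kernel

/-- Whether a coordinate is a row of a root matrix. -/
def isRow (r : Fin 72) (a : Fin 27) : Bool := (ent r).any fun p => p.1 == a

theorem no_two_rows : ∀ r t, (isRow r (va t) && isRow r (vb t)) = false ∧
    (isRow r (va t) && isRow r (vc t)) = false ∧ (isRow r (vb t) && isRow r (vc t)) = false := by
  decide +kernel

/-- Three indices in increasing order. -/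
def sort3 (a b c : Fin 27) : Fin 27 × Fin 27 × Fin 27 :=
  if a ≤ b then (if b ≤ c then (a, b, c) else if a ≤ c then (a, c, b) else (c, a, b))
  else (if a ≤ c then (b, a, c) else if b ≤ c then (b, c, a) else (c, b, a))

/-- The position in a triangle. -/
def vert (i : Fin 45 × Fin 3) : Fin 27 := ![va i.1, vb i.1, vc i.1] i.2

/-- The monomial of a term in the first derivative. -/
def key (r : Fin 72) (i : Fin 45 × Fin 3) : Fin 27 × Fin 27 × Fin 27 :=
  sort3 (srcOf (ent r) (vert i)) (![vb i.1, va i.1, va i.1] i.2) (![vc i.1, vc i.1, vb i.1] i.2)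

/-- The coefficient of a term in the first derivative. -/
def weightCoef (r : Fin 72) (i : Fin 45 × Fin 3) : ℤ :=
  sg i.1 * coef (ent r) (vert i) (srcOf (ent r) (vert i))

theorem cancel : ∀ r ∈ gens, ∀ i, isRow r (vert i) = true →
    ∑ j, (if isRow r (vert j) = true then (if key r j = key r i then weightCoef r j else 0) else 0) = 0 := by
  decide +kernel

variable {F : Type*} [Field F]

/-- The matrix of a root element. -/
def xm (F : Type*) [Field F] (r : Fin 72) (t : F) : Matrix I27 I27 F := 1 + t • mx F (ent r)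

theorem xm_mul (r : Fin 72) (t u : F) : xm F r t * xm F r u = xm F r (t + u) := by
  have h : mx F (ent r) * mx F (ent r) = 0 := by
    rw [← mx_lmul, mx_eq (ent_sq r), mx_nil]
  simp only [xm, add_mul, mul_add, one_mul, mul_one, Matrix.smul_mul, Matrix.mul_smul, h, smul_zero,
    add_zero, add_smul]
  abel

theorem xm_zero (r : Fin 72) : xm F r 0 = 1 := by simp [xm]

/-- A root element as a unit. -/
def xg (r : Fin 72) (t : F) : GL I27 F where
  val := xm F r t
  inv := xm F r (-t)
  val_inv := by rw [xm_mul, add_neg_cancel, xm_zero]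
  inv_val := by rw [xm_mul, neg_add_cancel, xm_zero]

theorem xg_inv (r : Fin 72) (t : F) : (xg r t)⁻¹ = xg r (-t) := Units.ext rfl

theorem xg_mul (r : Fin 72) (t u : F) : xg r t * xg r u = xg r (t + u) := Units.ext (xm_mul r t u)

theorem xg_mulVec (r : Fin 72) (t : F) (v : I27 → F) :
    (xg r t).val *ᵥ v = v + t • (mx F (ent r) *ᵥ v) := by
  simp [xg, xm, Matrix.add_mulVec, Matrix.smul_mulVec]

theorem co_root (r : Fin 72) (v : I27 → F) (a : Fin 27) :
    co (mx F (ent r) *ᵥ v) a = (coef (ent r) a (srcOf (ent r) a) : F) * co v (srcOf (ent r) a) :=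
  co_mx_eq_single (fun p hp h => by rw [ent_src r p hp, h]) v

theorem co_root_not_row {r : Fin 72} {a : Fin 27} (h : isRow r a = false) (v : I27 → F) :
    co (mx F (ent r) *ᵥ v) a = 0 :=
  co_mx_eq_zero (fun p hp e => by
    have : isRow r a = true := List.any_eq_true.mpr ⟨p, hp, by simp [e]⟩
    rw [h] at this
    cases this) v

theorem mul_rows_eq_zero (r : Fin 72) (v : I27 → F) {a b : Fin 27} (h : (isRow r a && isRow r b) = false) :
    co (mx F (ent r) *ᵥ v) a * co (mx F (ent r) *ᵥ v) b = 0 := by
  rcases Bool.and_eq_false_iff.mp h with h | h <;> simp [co_root_not_row h v]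

theorem sort3_mul (v : I27 → F) (a b c : Fin 27) :
    co v (sort3 a b c).1 * co v (sort3 a b c).2.1 * co v (sort3 a b c).2.2 = co v a * co v b * co v c := by
  unfold sort3
  split_ifs <;> ring

theorem der_root {r : Fin 72} (hr : r ∈ gens) (v : I27 → F) : der v (mx F (ent r) *ᵥ v) = 0 := by
  set u := mx F (ent r) *ᵥ v with hu
  let mon : Fin 27 × Fin 27 × Fin 27 → F := fun k => co v k.1 * co v k.2.1 * co v k.2.2
  have hterm : ∀ i : Fin 45 × Fin 3, (if isRow r (vert i) = true then (weightCoef r i : F) * mon (key r i) else 0) =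
      (sg i.1 : F) * (co u (vert i) * (co v (![vb i.1, va i.1, va i.1] i.2) * co v (![vc i.1, vc i.1, vb i.1] i.2))) := by
    intro i
    split_ifs with h
    · simp only [mon, key, sort3_mul, weightCoef, hu, co_root]
      push_cast
      ring
    · rw [hu, co_root_not_row (by simpa using h) v]; ring
  have hsum : der v u = ∑ i, if isRow r (vert i) = true then (weightCoef r i : F) * mon (key r i) else 0 := by
    rw [Finset.sum_congr rfl fun i _ => hterm i, Fintype.sum_prod_type, der]
    refine Finset.sum_congr rfl fun t _ => ?_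
    simp [Fin.sum_univ_three, vert]
    ring
  rw [hsum, ← Finset.sum_filter,
    ← Finset.sum_fiberwise_of_maps_to (g := key r) (fun i hi => Finset.mem_image_of_mem (key r) hi)]
  refine Finset.sum_eq_zero fun k hk => ?_
  obtain ⟨i, hi, rfl⟩ := Finset.mem_image.mp hk
  have h := congrArg (Int.cast : ℤ → F) (cancel r hr i (Finset.mem_filter.mp hi).2)
  push_cast at h
  rw [Finset.sum_filter, Finset.sum_filter]
  calc _ = ∑ j, (if isRow r (vert j) = true then (if key r j = key r i then (weightCoef r j : F) else 0) else 0) *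
        mon (key r i) := Finset.sum_congr rfl fun j _ => by
          split_ifs with h1 h2
          · rw [h2]
          all_goals simp
    _ = 0 := by rw [← Finset.sum_mul, h, zero_mul]

theorem xg_mem_univ {r : Fin 72} (hr : r ∈ gens) (t : F) : xg r t ∈ E6univ F := by
  intro v
  show cubicT ((xg r t).val *ᵥ v) = cubicT v
  rw [xg_mulVec, cubicT_add_smul, der_root hr]
  set u := mx F (ent r) *ᵥ v
  have h2 : der u v = 0 := Finset.sum_eq_zero fun s _ => by
    obtain ⟨h1, h2, h3⟩ := no_two_rows r s
    have e1 := mul_rows_eq_zero r v h1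
    have e2 := mul_rows_eq_zero r v h2
    have e3 := mul_rows_eq_zero r v h3
    linear_combination (sg s : F) * (co v (va s) * e3 + co v (vb s) * e2 + co v (vc s) * e1)
  have h3 : cubicT u = 0 := by
    rw [cubicT_eq]
    exact Finset.sum_eq_zero fun s _ => by
      linear_combination (sg s : F) * co u (vc s) * mul_rows_eq_zero r v (no_two_rows r s).1
  rw [h2, h3]
  ring

/-- The group generated by the fundamental root elements and their opposites. -/
def gen (F : Type*) [Field F] : Subgroup (GL I27 F) :=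
  Subgroup.closure {g | ∃ r ∈ gens, ∃ t : F, g = xg r t}

theorem gen_le : gen F ≤ E6univ F := by
  rw [gen, Subgroup.closure_le]
  rintro _ ⟨r, hr, t, rfl⟩
  exact xg_mem_univ hr t

theorem deriv_check : ∀ r : Fin 72, r ∈ gens ∨
    ((deriv r).1 ∈ gens ∧ (deriv (deriv r).2.1).2.2.2 < (deriv r).2.2.2 ∧
      (deriv r).2.2.1 * (deriv r).2.2.1 = 1 ∧
      Eqv (lmul (ent (deriv r).2.1) (lmul (ent (deriv r).1) (ent (deriv r).2.1))) [] ∧
      Eqv (lmul (ent (deriv r).1) (lmul (ent (deriv r).2.1) (ent (deriv r).1))) [] ∧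
      Eqv (lmul (ent (deriv r).1) (ent (deriv r).2.1) ++ lsmul (-1) (lmul (ent (deriv r).2.1) (ent (deriv r).1)))
        (lsmul (deriv r).2.2.1 (ent r))) := by
  decide +kernel

theorem comm_eq {a b u : Fin 72} {σ : ℤ} (hσ : σ * σ = 1)
    (hbab : Eqv (lmul (ent b) (lmul (ent a) (ent b))) []) (haba : Eqv (lmul (ent a) (lmul (ent b) (ent a))) [])
    (hc : Eqv (lmul (ent a) (ent b) ++ lsmul (-1) (lmul (ent b) (ent a))) (lsmul σ (ent u))) (t : F) :
    xg u t = xg a ((σ : F) * t) * xg b 1 * xg a (-((σ : F) * t)) * xg b (-1) := by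
  have za : ∀ r, mx F (ent r) * mx F (ent r) = 0 := fun r => by rw [← mx_lmul, mx_eq (ent_sq r), mx_nil]
  have e1 : mx F (ent b) * mx F (ent a) * mx F (ent b) = 0 := by
    rw [Matrix.mul_assoc, ← mx_lmul, ← mx_lmul, mx_eq hbab, mx_nil]
  have e2 : mx F (ent a) * mx F (ent b) * mx F (ent a) = 0 := by
    rw [Matrix.mul_assoc, ← mx_lmul, ← mx_lmul, mx_eq haba, mx_nil]
  have e3 : mx F (ent a) * mx F (ent b) - mx F (ent b) * mx F (ent a) = (σ : F) • mx F (ent u) := by
    have h := mx_eq (R := F) hc
    rw [mx_append, mx_lsmul, mx_lsmul, mx_lmul, mx_lmul] at h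
    rw [← h]; simp [sub_eq_add_neg]
  refine Units.ext ?_
  show xm F u t = xm F a ((σ : F) * t) * xm F b 1 * xm F a (-((σ : F) * t)) * xm F b (-1)
  set A := mx F (ent a)
  set B := mx F (ent b)
  generalize hs : (σ : F) * t = s
  have h : (1 + s • A) * (1 + (1 : F) • B) * (1 + (-s) • A) * (1 + (-1 : F) • B) =
      1 + s • (A * B - B * A) - B * B - s ^ 2 • (A * A) + s • (B * A * B) + s ^ 2 • (A * A * B) -
        s • (A * (B * B)) - s ^ 2 • (A * B * A) + s ^ 2 • (A * B * A * B) := by
    simp only [one_smul, add_mul, mul_add, one_mul, mul_one, smul_mul_assoc, mul_smul_comm, smul_smul,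
      mul_assoc]
    match_scalars <;> ring
  simp only [xm]
  rw [h, za a, za b, e1, e2, e3]
  simp only [smul_zero, Matrix.zero_mul, Matrix.mul_zero, sub_zero, add_zero, smul_smul]
  rw [← hs, show (σ : F) * t * σ = t by
    rw [mul_comm, ← mul_assoc, ← Int.cast_mul, hσ, Int.cast_one, one_mul]]

theorem xg_mem_gen (r : Fin 72) (t : F) : xg r t ∈ gen F := by
  induction hn : (deriv r).2.2.2 using Nat.strong_induction_on generalizing r t with
  | _ n ih =>
    rcases deriv_check r with h | ⟨h1, h2, h3, h4, h5, h6⟩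
    · exact Subgroup.subset_closure ⟨r, h, t, rfl⟩
    · have hb : ∀ s : F, xg (deriv r).2.1 s ∈ gen F := fun s => ih _ (hn ▸ h2) _ s rfl
      have ha : ∀ s : F, xg (deriv r).1 s ∈ gen F := fun s => Subgroup.subset_closure ⟨_, h1, s, rfl⟩
      rw [comm_eq h3 h4 h5 h6 t]
      exact mul_mem (mul_mem (mul_mem (ha _) (hb _)) (ha _)) (hb _)

end Cfsg.Agent.Lib.E6Form
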