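import Cfsg.Agent.Lib.E6Form.Basic

/-!
# Sparse integer matrices on the twenty-seven coordinates
-/

set_option autoImplicit false
set_option maxRecDepth 100000
set_option linter.unusedSectionVars false

namespace Cfsg.Agent.Lib.E6Form

open Cfsg.Lie Matrix

/-- A sparse matrix. -/
abbrev Sp : Type := List (Fin 27 × Fin 27 × ℤ)

/-- The entry of a sparse matrix. -/
def coef : Sp → Fin 27 → Fin 27 → ℤ
  | [], _, _ => 0
  | (i, j, c) :: l, a, b => (if i = a ∧ j = b then c else 0) + coef l a b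

/-- The product. -/
def lmul (A B : Sp) : Sp :=
  A.flatMap fun p => B.filterMap fun q => if p.2.1 = q.1 then some (p.1, q.2.1, p.2.2 * q.2.2) else none

/-- A multiple. -/
def lsmul (c : ℤ) (A : Sp) : Sp := A.map fun p => (p.1, p.2.1, c * p.2.2)

/-- Equality of the matrices. -/
def Eqv (A B : Sp) : Prop :=
  ∀ p ∈ A ++ B, coef A p.1 p.2.1 = coef B p.1 p.2.1

instance (A B : Sp) : Decidable (Eqv A B) := by unfold Eqv; infer_instance

variable {R : Type*} [CommRing R]

/-- The matrix. -/
def mx (R : Type*) [CommRing R] (A : Sp) : Matrix I27 I27 R :=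
  (A.map fun p => Matrix.single (ix p.1) (ix p.2.1) (p.2.2 : R)).sum

theorem mx_nil : mx R [] = 0 := rfl

theorem mx_cons (p : Fin 27 × Fin 27 × ℤ) (A : Sp) :
    mx R (p :: A) = Matrix.single (ix p.1) (ix p.2.1) (p.2.2 : R) + mx R A := by simp [mx]

theorem mx_append (A B : Sp) : mx R (A ++ B) = mx R A + mx R B := by simp [mx]

theorem mx_apply (A : Sp) (a b : Fin 27) : mx R A (ix a) (ix b) = (coef A a b : R) := by
  induction A with
  | nil => simp [mx_nil, coef]
  | cons p A ih =>
    obtain ⟨i, j, c⟩ := p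
    rw [mx_cons, Matrix.add_apply, ih, coef]
    simp [Matrix.single_apply, ix.injective.eq_iff]

theorem mx_flatMap {α : Type*} (l : List α) (f : α → Sp) :
    mx R (l.flatMap f) = (l.map fun x => mx R (f x)).sum := by
  induction l with
  | nil => rfl
  | cons x l ih => rw [List.flatMap_cons, mx_append, List.map_cons, List.sum_cons, ih]

theorem mx_lsmul (c : ℤ) (A : Sp) : mx R (lsmul c A) = (c : R) • mx R A := by
  induction A with
  | nil => simp [mx_nil, lsmul]
  | cons p A ih =>
    rw [lsmul, List.map_cons, mx_cons, mx_cons, smul_add, ← lsmul, ih]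
    simp

theorem mx_lmul (A B : Sp) : mx R (lmul A B) = mx R A * mx R B := by
  induction A with
  | nil => simp [lmul, mx_nil]
  | cons p A ih =>
    rw [lmul, List.flatMap_cons, mx_append, ← lmul, ih, mx_cons, Matrix.add_mul]
    congr 1
    clear ih
    induction B with
    | nil => simp [mx_nil]
    | cons q B ihB =>
      rw [List.filterMap_cons, mx_cons q B, Matrix.mul_add, ← ihB]
      by_cases h : p.2.1 = q.1
      · simp [h, mx_cons]
      · simp [h, ix.injective.ne h]

theorem coef_eq_zero {A : Sp} {a b : Fin 27} (h : ∀ p ∈ A, ¬ (p.1 = a ∧ p.2.1 = b)) : coef A a b = 0 := by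
  induction A with
  | nil => rfl
  | cons p A ih =>
    obtain ⟨i, j, c⟩ := p
    rw [coef, ih fun q hq => h q (List.mem_cons_of_mem _ hq), if_neg (h (i, j, c) (by simp)), add_zero]

theorem coef_eq_of_eqv {A B : Sp} (h : Eqv A B) (a b : Fin 27) : coef A a b = coef B a b := by
  by_cases hp : ∃ p ∈ A ++ B, p.1 = a ∧ p.2.1 = b
  · obtain ⟨p, hp, rfl, rfl⟩ := hp
    exact h p hp
  · push Not at hp
    rw [coef_eq_zero fun p hp' he => hp p (List.mem_append_left _ hp') he.1 he.2,
      coef_eq_zero fun p hp' he => hp p (List.mem_append_right _ hp') he.1 he.2]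

theorem mx_eq {A B : Sp} (h : Eqv A B) : mx R A = mx R B := by
  ext p q
  obtain ⟨a, rfl⟩ := ix.surjective p
  obtain ⟨b, rfl⟩ := ix.surjective q
  rw [mx_apply, mx_apply, coef_eq_of_eqv h]

/-- The row of a sparse matrix applied to a vector. -/
theorem co_mx_mulVec (A : Sp) (v : I27 → R) (a : Fin 27) :
    co (mx R A *ᵥ v) a = ∑ b, (coef A a b : R) * co v b := by
  show ∑ q, mx R A (ix a) q * v q = _
  rw [← ix.sum_comp]
  simp [mx_apply, co]

theorem co_mx_e (A : Sp) (a b : Fin 27) : co (mx R A *ᵥ e b) a = (coef A a b : R) := by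
  rw [co_mx_mulVec]
  simp [co_e]

theorem mx_mulVec_e_eq_zero {A : Sp} {b : Fin 27} (h : ∀ p ∈ A, p.2.1 ≠ b) :
    mx R A *ᵥ e b = 0 := ext_co fun a => by
  rw [co_mx_e, coef_eq_zero fun p hp he => h p hp he.2, Int.cast_zero]
  rfl

theorem co_mx_eq_zero {A : Sp} {a : Fin 27} (h : ∀ p ∈ A, p.1 ≠ a) (v : I27 → R) :
    co (mx R A *ᵥ v) a = 0 := by
  rw [co_mx_mulVec]
  exact Finset.sum_eq_zero fun b _ => by
    rw [coef_eq_zero fun p hp he => h p hp he.1, Int.cast_zero, zero_mul]

theorem co_mx_eq_single {A : Sp} {a b : Fin 27} (h : ∀ p ∈ A, p.1 = a → p.2.1 = b) (v : I27 → R) :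
    co (mx R A *ᵥ v) a = (coef A a b : R) * co v b := by
  rw [co_mx_mulVec]
  refine Finset.sum_eq_single b (fun c _ hc => ?_) (by simp)
  rw [coef_eq_zero fun p hp he => hc (he.2.symm.trans (h p hp he.1)), Int.cast_zero, zero_mul]

end Cfsg.Agent.Lib.E6Form
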